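import Cfsg.Agent.Lib.SpClassNum.Count

/-!
The data of the classes of the symplectic group, and their number.
-/

set_option autoImplicit false

namespace CfsgLib.SpClassNum

open Finset

/-- The data of a class: the signed Jordan types at `1` and `-1`, and the label away from `±1`. -/
structure ClassData (F : Type*) [Field F] where
  /-- block sizes at `1` -/
  mu : Multiset ℕ
  /-- signs at `1` -/
  sg : ℕ → Bool
  /-- block sizes at `-1` -/
  mu' : Multiset ℕ
  /-- signs at `-1` -/
  sg' : ℕ → Bool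
  /-- the label of the rest -/
  lbl : ℕ → Polynomial F

/-- A signed Jordan type of a unipotent isometry. -/
structure IsUType (μ : Multiset ℕ) (s : ℕ → Bool) : Prop where
  pos : ∀ a ∈ μ, 0 < a
  odd : ∀ j, Odd j → Even (μ.count j)
  sgn : ∀ j, s j = true → Even j ∧ j ∈ μ

variable {F : Type*} [Field F]

/-- A self-reciprocal monic polynomial of even degree without roots `±1`. -/
structure IsSR (f : Polynomial F) : Prop where
  monic : f.Monic
  even : Even f.natDegree
  pal : ∀ j ≤ f.natDegree, f.coeff (f.natDegree - j) = f.coeff j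
  one : f.eval 1 ≠ 0
  neg_one : f.eval (-1) ≠ 0

/-- Admissible data. -/
structure Valid (n : ℕ) (x : ClassData F) : Prop where
  ut : IsUType x.mu x.sg
  ut' : IsUType x.mu' x.sg'
  sr : ∀ i, IsSR (x.lbl i)
  zero : x.lbl 0 = 1
  big : ∀ i, 2 * n < i → x.lbl i = 1
  weight : x.mu.sum + x.mu'.sum + ∑ i ∈ range (2 * n + 1), i * (x.lbl i).natDegree = 2 * n

open Polynomial in
theorem IsSR.eq_of_coeffs (h4 : (4 : F) ≠ 0) {f g : F[X]} (hf : IsSR f) (hg : IsSR g) {d : ℕ}
    (hfd : f.natDegree = 2 * d) (hgd : g.natDegree = 2 * d)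
    (hc : ∀ j, j + 2 ≤ d → f.coeff j = g.coeff j) (h1 : f.eval 1 = g.eval 1)
    (hm : f.eval (-1) = g.eval (-1)) : f = g := by
  rcases Nat.eq_zero_or_pos d with rfl | hd
  · rw [hf.monic.natDegree_eq_zero.1 (by omega), hg.monic.natDegree_eq_zero.1 (by omega)]
  obtain ⟨e, rfl⟩ : ∃ e, d = e + 1 := ⟨d - 1, by omega⟩
  set a := f.coeff e - g.coeff e with ha
  set b := f.coeff (e + 1) - g.coeff (e + 1) with hb
  have key : f - g = C a * (X ^ e + X ^ (e + 2)) + C b * X ^ (e + 1) := by
    have hlow : ∀ j, j < e → f.coeff j = g.coeff j := fun j hj => hc j (by omega)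
    have hhigh : ∀ j, e + 2 < j → f.coeff j = g.coeff j := fun j hj => by
      by_cases hjd : j ≤ 2 * (e + 1)
      · have h1 := hf.pal (2 * (e + 1) - j) (by omega)
        have h2 := hg.pal (2 * (e + 1) - j) (by omega)
        rw [hfd, show 2 * (e + 1) - (2 * (e + 1) - j) = j by omega] at h1
        rw [hgd, show 2 * (e + 1) - (2 * (e + 1) - j) = j by omega] at h2
        rw [h1, h2, hlow _ (by omega)]
      · rw [coeff_eq_zero_of_natDegree_lt (by omega), coeff_eq_zero_of_natDegree_lt (by omega)]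
    have hmid : f.coeff (e + 2) - g.coeff (e + 2) = a := by
      have h1 := hf.pal e (by omega)
      have h2 := hg.pal e (by omega)
      rw [hfd, show 2 * (e + 1) - e = e + 2 by omega] at h1
      rw [hgd, show 2 * (e + 1) - e = e + 2 by omega] at h2
      rw [h1, h2]
    ext j
    simp only [coeff_sub, coeff_add, coeff_C_mul, coeff_X_pow]
    rcases lt_trichotomy j (e + 1) with h | h | h
    · by_cases hje : j = e
      · subst hje; simp [ha]
      · rw [hlow j (by omega), sub_self, if_neg hje, if_neg (by omega), if_neg (by omega)]; ring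
    · subst h; simp [hb]
    · by_cases hje : j = e + 2
      · subst hje; simp [hmid]
      · rw [hhigh j (by omega), sub_self, if_neg (by omega), if_neg hje, if_neg (by omega)]; ring
  have e1 := congrArg (eval 1) key
  simp only [eval_sub, eval_add, eval_mul, eval_C, eval_pow, eval_X, one_pow, h1, sub_self] at e1
  have e2 := congrArg (eval (-1)) key
  simp only [eval_sub, eval_add, eval_mul, eval_C, eval_pow, eval_X, hm, sub_self, pow_succ] at e2
  have e2' : (-1 : F) ^ e * (2 * a - b) = 0 := by linear_combination -e2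
  have e2'' : 2 * a - b = 0 :=
    (mul_eq_zero.1 e2').resolve_left (pow_ne_zero _ (neg_ne_zero.2 one_ne_zero))
  have ha0 : a = 0 := (mul_eq_zero.1 (show 4 * a = 0 by linear_combination e2'' - e1)).resolve_left h4
  have hb0 : b = 0 := by linear_combination 2 * ha0 - e2''
  rw [← sub_eq_zero, key, ha0, hb0]
  simp

variable [Fintype F]

open Classical Polynomial in
theorem exists_srSet (h2 : (2 : F) ≠ 0) (d : ℕ) : ∃ S : Finset F[X],
    S.card ≤ cnt (Fintype.card F) d ∧ ∀ f : F[X], IsSR f → f.natDegree = 2 * d → f ∈ S := by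
  have h4 : (4 : F) ≠ 0 := by
    rw [show (4 : F) = 2 * 2 by norm_num]; exact mul_ne_zero h2 h2
  let P : Set F[X] := {f | IsSR f ∧ f.natDegree = 2 * d}
  suffices h : ∀ {α : Type _} (φ : F[X] → α) (T : Finset α), Set.InjOn φ P →
      (∀ f ∈ P, φ f ∈ T) → T.card ≤ cnt (Fintype.card F) d →
      ∃ S : Finset F[X], S.card ≤ cnt (Fintype.card F) d ∧
        ∀ f : F[X], IsSR f → f.natDegree = 2 * d → f ∈ S by
    let φ : F[X] → (Fin (d - 2) → F) × F × F :=
      fun f => (fun i => f.coeff ((i : ℕ) + 1), f.eval 1, f.eval (-1))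
    have hc0 : ∀ f ∈ P, f.coeff 0 = 1 := fun f hf => by
      have := hf.1.pal 0 (Nat.zero_le _)
      rw [Nat.sub_zero] at this
      rw [← this]
      exact hf.1.monic.coeff_natDegree
    rcases d with _ | _ | e
    · exact ⟨{1}, by simp [cnt], fun f hf hd => Finset.mem_singleton.2
        (hf.monic.natDegree_eq_zero.1 (by omega))⟩
    · refine h (fun f => f.eval 1) ((univ.erase 0).erase 4) (fun f hf g hg hfg => ?_) (fun f hf => ?_) ?_
      · refine hf.1.eq_of_coeffs h4 hg.1 hf.2 hg.2 (fun j hj => by omega) hfg ?_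
        have key : ∀ f ∈ P, f.eval (-1) = 4 - f.eval 1 := fun f hf => by
          have h0 := hc0 f hf
          have h2' : f.coeff 2 = 1 := by
            have := hf.1.monic.coeff_natDegree; rwa [hf.2] at this
          rw [eval_eq_sum_range, eval_eq_sum_range, hf.2]
          simp [Finset.sum_range_succ, h0, h2']
          ring
        rw [key f hf, key g hg]
        exact congrArg _ hfg
      · refine Finset.mem_erase.2 ⟨fun h0 => hf.1.neg_one ?_, Finset.mem_erase.2 ⟨hf.1.one, mem_univ _⟩⟩
        have h0' := hc0 f hf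
        have h2' : f.coeff 2 = 1 := by
          have := hf.1.monic.coeff_natDegree; rwa [hf.2] at this
        rw [eval_eq_sum_range, hf.2] at h0 ⊢
        simp [Finset.sum_range_succ, h0', h2'] at h0 ⊢
        linear_combination -h0
      · rw [card_erase_of_mem (mem_erase.2 ⟨h4, mem_univ _⟩), card_erase_of_mem (mem_univ _), card_univ]
        simp only [cnt]
        omega
    · refine h φ (univ ×ˢ (univ.erase 0) ×ˢ (univ.erase 0)) (fun f hf g hg hfg => ?_) (fun f hf => ?_) ?_
      · simp only [φ, Prod.mk.injEq] at hfg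
        refine hf.1.eq_of_coeffs h4 hg.1 hf.2 hg.2 (fun j hj => ?_) hfg.2.1 hfg.2.2
        rcases j with _ | i
        · rw [hc0 f hf, hc0 g hg]
        · exact congrFun hfg.1 ⟨i, by omega⟩
      · simp only [φ, mem_product, mem_univ, mem_erase, and_true, true_and]
        exact ⟨hf.1.one, hf.1.neg_one⟩
      · rw [card_product, card_product, card_erase_of_mem (mem_univ _), card_univ, card_univ,
          Fintype.card_fun, Fintype.card_fin]
        simp only [cnt, sq, show e + 1 + 1 - 2 = e by omega]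
        rfl
  intro α φ T hinj hmem hcard
  have himg : (φ '' P).Finite := T.finite_toSet.subset (Set.image_subset_iff.2 hmem)
  have hfin : P.Finite := himg.of_finite_image hinj
  refine ⟨hfin.toFinset, le_trans (Finset.card_le_card_of_injOn φ (fun f hf => hmem f
    (hfin.mem_toFinset.1 hf)) (fun f hf g hg => hinj (hfin.mem_toFinset.1 hf) (hfin.mem_toFinset.1 hg)))
    hcard, fun f hf hd => hfin.mem_toFinset.2 ⟨hf, hd⟩⟩

/-- The code of the multiplicities and signs of one even block size at `1` and at `-1`. -/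
def code (a b : ℕ) (s t : Bool) : ℕ :=
  if a = 0 then (if t then 1 else 0)
  else if b = 0 then (if s then 3 else 2) else 4 * a + (if s then 2 else 0) + (if t then 1 else 0)

theorem code_lt {a b : ℕ} {s t : Bool} (hs : s = true → 0 < a) (ht : t = true → 0 < b) :
    code a b s t < e2 (a + b) := by
  cases s <;> cases t <;> simp_all [code, e2] <;> split_ifs <;> omega

theorem code_inj {a b a' b' : ℕ} {s t s' t' : Bool} (hs : s = true → 0 < a) (ht : t = true → 0 < b)
    (hs' : s' = true → 0 < a') (ht' : t' = true → 0 < b') (hab : a + b = a' + b')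
    (h : code a b s t = code a' b' s' t') : a = a' ∧ b = b' ∧ s = s' ∧ t = t' := by
  cases s <;> cases t <;> cases s' <;> cases t' <;> simp_all [code] <;> split_ifs at h <;> omega

omit [Fintype F] in
theorem IsUType.le_sum {μ : Multiset ℕ} {j : ℕ} (hj : μ.sum < j) : μ.count j = 0 :=
  Multiset.count_eq_zero.2 fun h => absurd (Multiset.le_sum_of_mem h) (by omega)

theorem sum_range_parity (f : ℕ → ℕ) : ∀ N : ℕ,
    ∑ j ∈ range (2 * N + 1), f j = f 0 + ∑ i ∈ range N, (f (2 * i + 1) + f (2 * i + 2))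
  | 0 => by simp
  | N + 1 => by
    rw [show 2 * (N + 1) + 1 = 2 * N + 1 + 1 + 1 by omega, sum_range_succ, sum_range_succ,
      sum_range_parity f N, sum_range_succ _ N]
    ring_nf

theorem sum_eq_count {μ : Multiset ℕ} {N : ℕ} (h : μ.sum ≤ 2 * N) (hpar : ∀ j, Odd j → Even (μ.count j)) :
    μ.sum = 2 * ∑ i ∈ range N, ((2 * i + 1) * (μ.count (2 * i + 1) / 2) +
      (i + 1) * μ.count (2 * i + 2)) := by
  have hsub : μ.toFinset ⊆ range (2 * N + 1) := fun j hj => mem_range.2 (by
    have := Multiset.le_sum_of_mem (Multiset.mem_toFinset.1 hj); omega)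
  rw [Finset.sum_multiset_count_of_subset _ _ hsub, sum_range_parity, smul_zero, zero_add, mul_sum]
  refine sum_congr rfl fun i _ => ?_
  obtain ⟨c, hc⟩ := hpar (2 * i + 1) ⟨i, rfl⟩
  rw [smul_eq_mul, smul_eq_mul, hc, show (c + c) / 2 = c by omega]
  ring

/-- The number of blocks of even size `2(i+1)` plus half the degree of the label. -/
noncomputable def tot (x : ClassData F) (i : ℕ) : ℕ :=
  x.mu.count (2 * i + 2) + x.mu'.count (2 * i + 2) + (x.lbl (i + 1)).natDegree / 2

theorem Valid.natDegree_eq {n : ℕ} {x : ClassData F} (h : Valid n x) (i : ℕ) :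
    (x.lbl i).natDegree = 2 * ((x.lbl i).natDegree / 2) := by
  obtain ⟨c, hc⟩ := (h.sr i).even
  omega

theorem Valid.lbl_eq_one {n : ℕ} {x : ClassData F} (h : Valid n x) {i : ℕ} (hi : n < i) :
    x.lbl i = 1 := by
  by_cases hb : 2 * n < i
  · exact h.big i hb
  refine (h.sr i).monic.natDegree_eq_zero.1 ?_
  have h1 : i * (x.lbl i).natDegree ≤ 2 * n := le_trans (single_le_sum
    (s := range (2 * n + 1)) (f := fun i => i * (x.lbl i).natDegree) (fun _ _ => Nat.zero_le _) (mem_range.2 (by omega)))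
    (by have := h.weight; omega)
  rw [h.natDegree_eq i] at h1 ⊢
  by_contra hne
  have : i * 2 ≤ i * (2 * ((x.lbl i).natDegree / 2)) := Nat.mul_le_mul_left i (by omega)
  omega

theorem Valid.weight_eq {n : ℕ} {x : ClassData F} (h : Valid n x) :
    ∑ i ∈ range n, ((i + 1) * tot x i +
      ((2 * i + 1) * (x.mu.count (2 * i + 1) / 2) + (2 * i + 1) * (x.mu'.count (2 * i + 1) / 2))) = n := by
  have hw := h.weight
  rw [sum_eq_count (N := n) (by omega) h.ut.odd, sum_eq_count (N := n) (by omega) h.ut'.odd] at hw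
  rw [show ∑ i ∈ range (2 * n + 1), i * (x.lbl i).natDegree =
      ∑ i ∈ range (n + 1), i * (x.lbl i).natDegree from
    (sum_subset (range_subset_range.2 (show n + 1 ≤ 2 * n + 1 by omega)) fun i _ hi => by
      rw [h.lbl_eq_one (show n < i by have := mem_range.not.1 hi; omega)]; simp).symm, sum_range_succ'] at hw
  rw [sum_congr rfl fun i (_ : i ∈ range n) =>
    show (i + 1) * (x.lbl (i + 1)).natDegree = 2 * ((i + 1) * ((x.lbl (i + 1)).natDegree / 2)) by
      conv_lhs => rw [h.natDegree_eq (i + 1)]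
      ring] at hw
  simp only [tot, mul_add, sum_add_distrib, ← mul_sum] at hw ⊢
  omega

open Classical in
/-- The number of classes described by the data is bounded. -/
theorem card_data_le (h2 : (2 : F) ≠ 0) (hq : 3 ≤ Fintype.card F) (m : ℕ) {C : Type*} [Fintype C]
    (D : C → ClassData F) (hD : ∀ c, Valid (m + 1) (D c)) (hinj : Function.Injective D) :
    5 * Nat.card C ≤ 54 * Fintype.card F ^ (m + 1) := by
  choose S hS hmem using exists_srSet (F := F) h2
  let slot : ℕ → Finset (ℕ × Polynomial F × ℕ) := fun t =>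
    (range (t + 1)).biUnion fun d => {d} ×ˢ S d ×ˢ range (e2 (t - d))
  have hslot : ∀ t, (slot t).card ≤ wt (Fintype.card F) t := fun t => by
    refine card_biUnion_le.trans (sum_le_sum fun d _ => ?_)
    rw [card_product, card_product, card_singleton, one_mul, card_range]
    exact Nat.mul_le_mul_right _ (hS d)
  let K : Finset (Box m × (Fin (m + 1) → ℕ × Polynomial F × ℕ)) :=
    (univ.filter fun r : Box m => bw r ≤ m + 1).biUnion fun r =>
      {r} ×ˢ Fintype.piFinset fun i => slot (full r i)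
  have hK : K.card ≤ ∑ r ∈ univ.filter (fun r : Box m => bw r ≤ m + 1),
      ∏ i, wt (Fintype.card F) (full r i) := by
    refine card_biUnion_le.trans (sum_le_sum fun r _ => ?_)
    rw [card_product, card_singleton, one_mul, Fintype.card_piFinset]
    exact prod_le_prod (fun i _ => Nat.zero_le _) fun i _ => hslot _
  suffices h : Nat.card C ≤ K.card by
    have := sum_le_bound hq m
    omega
  have hb : ∀ c (i : ℕ), i < m + 1 → tot (D c) i < m + 2 ∧
      (D c).mu.count (2 * i + 1) / 2 < m + 2 ∧ (D c).mu'.count (2 * i + 1) / 2 < m + 2 := by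
    intro c i hi
    have h := single_le_sum (f := fun i => (i + 1) * tot (D c) i +
      ((2 * i + 1) * ((D c).mu.count (2 * i + 1) / 2) + (2 * i + 1) * ((D c).mu'.count (2 * i + 1) / 2)))
      (fun _ _ => Nat.zero_le _) (mem_range.2 hi)
    rw [(hD c).weight_eq] at h
    have h1 := Nat.le_mul_of_pos_left (tot (D c) i) (show 0 < i + 1 by omega)
    have h2 := Nat.le_mul_of_pos_left ((D c).mu.count (2 * i + 1) / 2) (show 0 < 2 * i + 1 by omega)
    have h3 := Nat.le_mul_of_pos_left ((D c).mu'.count (2 * i + 1) / 2) (show 0 < 2 * i + 1 by omega)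
    omega
  let rest : C → Box m := fun c =>
    (fun i => ⟨tot (D c) ((i : ℕ) + 1), (hb c _ (by omega)).1⟩,
      fun i => ⟨(D c).mu.count (2 * (i : ℕ) + 1) / 2, (hb c i i.2).2.1⟩,
      fun i => ⟨(D c).mu'.count (2 * (i : ℕ) + 1) / 2, (hb c i i.2).2.2⟩)
  have hsum : ∀ c, tot (D c) 0 + bw (rest c) = m + 1 := fun c => by
    conv_rhs => rw [← (hD c).weight_eq]
    rw [sum_add_distrib, sum_add_distrib, sum_range_succ', ← Fin.sum_univ_eq_sum_range,
      ← Fin.sum_univ_eq_sum_range, ← Fin.sum_univ_eq_sum_range]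
    simp only [rest, bw, Nat.zero_add, one_mul]
    ring
  have hfull : ∀ c (i : Fin (m + 1)), full (rest c) i = tot (D c) i := fun c i => by
    refine Fin.cases ?_ (fun j => ?_) i
    · rw [full, Fin.cons_zero, Fin.val_zero]
      have := hsum c
      omega
    · rw [full, Fin.cons_succ, Fin.val_succ]
  let key : C → Box m × (Fin (m + 1) → ℕ × Polynomial F × ℕ) := fun c =>
    (rest c, fun i => (((D c).lbl ((i : ℕ) + 1)).natDegree / 2, (D c).lbl ((i : ℕ) + 1),
      code ((D c).mu.count (2 * (i : ℕ) + 2)) ((D c).mu'.count (2 * (i : ℕ) + 2))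
        ((D c).sg (2 * (i : ℕ) + 2)) ((D c).sg' (2 * (i : ℕ) + 2))))
  have sgpos : ∀ {μ : Multiset ℕ} {s : ℕ → Bool}, IsUType μ s → ∀ j, s j = true → 0 < μ.count j :=
    fun h j hj => Multiset.count_pos.2 (h.sgn j hj).2
  rw [Nat.card_eq_fintype_card, ← Finset.card_univ]
  refine card_le_card_of_injOn key (fun c _ => ?_) fun c _ c' _ hcc => hinj ?_
  · refine mem_biUnion.2 ⟨rest c, mem_filter.2 ⟨mem_univ _, by have := hsum c; omega⟩,
      mem_product.2 ⟨mem_singleton_self _, Fintype.mem_piFinset.2 fun i => mem_biUnion.2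
        ⟨((D c).lbl ((i : ℕ) + 1)).natDegree / 2, mem_range.2 ?_, mem_product.2
          ⟨mem_singleton_self _, mem_product.2 ⟨hmem _ _ ((hD c).sr _) ((hD c).natDegree_eq _),
            mem_range.2 ?_⟩⟩⟩⟩⟩
    · rw [hfull, tot]; omega
    · rw [hfull, tot, Nat.add_sub_cancel]
      exact code_lt (sgpos (hD c).ut _) (sgpos (hD c).ut' _)
  · simp only [key, Prod.mk.injEq] at hcc
    obtain ⟨hr, hk⟩ := hcc
    have hk' : ∀ i < m + 1, ((D c).lbl (i + 1)).natDegree / 2 = ((D c').lbl (i + 1)).natDegree / 2 ∧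
        (D c).lbl (i + 1) = (D c').lbl (i + 1) ∧ tot (D c) i = tot (D c') i ∧
        code ((D c).mu.count (2 * i + 2)) ((D c).mu'.count (2 * i + 2))
          ((D c).sg (2 * i + 2)) ((D c).sg' (2 * i + 2)) =
        code ((D c').mu.count (2 * i + 2)) ((D c').mu'.count (2 * i + 2))
          ((D c').sg (2 * i + 2)) ((D c').sg' (2 * i + 2)) := fun i hi => by
      have h := congrFun hk ⟨i, hi⟩
      simp only [Prod.mk.injEq] at h
      refine ⟨h.1, h.2.1, ?_, h.2.2⟩
      rw [← hfull c ⟨i, hi⟩, ← hfull c' ⟨i, hi⟩, hr]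
    have hev : ∀ i, (D c).mu.count (2 * i + 2) = (D c').mu.count (2 * i + 2) ∧
        (D c).mu'.count (2 * i + 2) = (D c').mu'.count (2 * i + 2) ∧
        (D c).sg (2 * i + 2) = (D c').sg (2 * i + 2) ∧
        (D c).sg' (2 * i + 2) = (D c').sg' (2 * i + 2) := fun i => by
      by_cases hi : i < m + 1
      · obtain ⟨hd, -, ht, hc⟩ := hk' i hi
        simp only [tot] at ht
        exact code_inj (sgpos (hD c).ut _) (sgpos (hD c).ut' _) (sgpos (hD c').ut _)
          (sgpos (hD c').ut' _) (by omega) hc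
      · have hz : ∀ d, (D d).mu.count (2 * i + 2) = 0 ∧ (D d).mu'.count (2 * i + 2) = 0 := fun d => by
          have := (hD d).weight
          exact ⟨IsUType.le_sum (by omega), IsUType.le_sum (by omega)⟩
        have hs : ∀ {μ : Multiset ℕ} {s : ℕ → Bool}, IsUType μ s → μ.count (2 * i + 2) = 0 →
            s (2 * i + 2) = false := fun h h0 => Bool.eq_false_iff.2 fun h' => by
          have := sgpos h _ h'; omega
        refine ⟨(hz c).1.trans (hz c').1.symm, (hz c).2.trans (hz c').2.symm, ?_, ?_⟩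
        · rw [hs (hD c).ut (hz c).1, hs (hD c').ut (hz c').1]
        · rw [hs (hD c).ut' (hz c).2, hs (hD c').ut' (hz c').2]
    have hodd : ∀ i, (D c).mu.count (2 * i + 1) = (D c').mu.count (2 * i + 1) ∧
        (D c).mu'.count (2 * i + 1) = (D c').mu'.count (2 * i + 1) := fun i => by
      by_cases hi : i < m + 1
      · have h1 := congrArg (fun r : Box m => ((r.2.1 ⟨i, hi⟩ : ℕ), (r.2.2 ⟨i, hi⟩ : ℕ))) hr
        simp only [rest, Prod.mk.injEq] at h1
        obtain ⟨a, ha⟩ := (hD c).ut.odd (2 * i + 1) ⟨i, rfl⟩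
        obtain ⟨a', ha'⟩ := (hD c').ut.odd (2 * i + 1) ⟨i, rfl⟩
        obtain ⟨b, hb⟩ := (hD c).ut'.odd (2 * i + 1) ⟨i, rfl⟩
        obtain ⟨b', hb'⟩ := (hD c').ut'.odd (2 * i + 1) ⟨i, rfl⟩
        omega
      · have := (hD c).weight
        have := (hD c').weight
        rw [IsUType.le_sum (by omega), IsUType.le_sum (by omega), IsUType.le_sum (by omega),
          IsUType.le_sum (by omega)]
        exact ⟨rfl, rfl⟩
    have hzero : ∀ {μ : Multiset ℕ} {s : ℕ → Bool}, IsUType μ s → μ.count 0 = 0 :=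
      fun h => Multiset.count_eq_zero.2 fun h0 => Nat.lt_irrefl 0 (h.pos 0 h0)
    have hsg : ∀ {μ : Multiset ℕ} {s : ℕ → Bool}, IsUType μ s → ∀ i, s (2 * i + 1) = false ∧
        s 0 = false := fun h i =>
      ⟨Bool.eq_false_iff.2 fun h' => Nat.not_even_two_mul_add_one i (h.sgn _ h').1,
        Bool.eq_false_iff.2 fun h' => Nat.lt_irrefl 0 (h.pos 0 (h.sgn _ h').2)⟩
    have hcase : ∀ j : ℕ, j = 0 ∨ (∃ i, j = 2 * i + 1) ∨ ∃ i, j = 2 * i + 2 := fun j => by
      rcases Nat.even_or_odd j with ⟨k, hk⟩ | ⟨k, hk⟩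
      · by_cases h : j = 0
        · exact Or.inl h
        · exact Or.inr (Or.inr ⟨k - 1, by omega⟩)
      · exact Or.inr (Or.inl ⟨k, by omega⟩)
    have e1 : (D c).mu = (D c').mu := Multiset.ext.2 fun j => by
      rcases hcase j with rfl | ⟨i, rfl⟩ | ⟨i, rfl⟩
      exacts [(hzero (hD c).ut).trans (hzero (hD c').ut).symm, (hodd i).1, (hev i).1]
    have e1' : (D c).mu' = (D c').mu' := Multiset.ext.2 fun j => by
      rcases hcase j with rfl | ⟨i, rfl⟩ | ⟨i, rfl⟩
      exacts [(hzero (hD c).ut').trans (hzero (hD c').ut').symm, (hodd i).2, (hev i).2.1]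
    have e3 : (D c).sg = (D c').sg := funext fun j => by
      rcases hcase j with rfl | ⟨i, rfl⟩ | ⟨i, rfl⟩
      exacts [((hsg (hD c).ut 0).2).trans (hsg (hD c').ut 0).2.symm,
        ((hsg (hD c).ut i).1).trans (hsg (hD c').ut i).1.symm, (hev i).2.2.1]
    have e3' : (D c).sg' = (D c').sg' := funext fun j => by
      rcases hcase j with rfl | ⟨i, rfl⟩ | ⟨i, rfl⟩
      exacts [((hsg (hD c).ut' 0).2).trans (hsg (hD c').ut' 0).2.symm,
        ((hsg (hD c).ut' i).1).trans (hsg (hD c').ut' i).1.symm, (hev i).2.2.2]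
    have e5 : (D c).lbl = (D c').lbl := funext fun j => by
      rcases j with _ | i
      · rw [(hD c).zero, (hD c').zero]
      · by_cases hi : i < m + 1
        · exact (hk' i hi).2.1
        · rw [(hD c).lbl_eq_one (by omega), (hD c').lbl_eq_one (by omega)]
    generalize D c = u, D c' = u' at *
    obtain ⟨_, _, _, _, _⟩ := u
    obtain ⟨_, _, _, _, _⟩ := u'
    simp_all

end CfsgLib.SpClassNum
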