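import Cfsg.Agent.Lib.SpUnipClass.Frame
import Cfsg.Agent.Lib.SpClassNum.Keys

/-!
Unipotent isometries of alternating forms: signed Jordan types.
-/

set_option autoImplicit false

namespace CfsgLib.SpClassNum

open Matrix CfsgLib.UnipotentGL CfsgLib.UnipotentClassical CfsgLib.SpUnip

variable {F V : Type*} [Field F] [AddCommGroup V] [Module F V]

/-- A non-degenerate alternating form and an isometry of it. -/
structure IsIsom (B : V →ₗ[F] V →ₗ[F] F) (G : V ≃ₗ[F] V) : Prop where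
  alt : ∀ v, B v v = 0
  nondeg : ∀ v, (∀ w, B v w = 0) → v = 0
  inv : ∀ x y, B (G x) (G y) = B x y

theorem IsIsom.skew {B : V →ₗ[F] V →ₗ[F] F} {G : V ≃ₗ[F] V} (h : IsIsom B G) (x y : V) :
    B x y = -B y x := by
  have := h.alt (x + y)
  simp only [map_add, LinearMap.add_apply, h.alt, zero_add, add_zero] at this
  linear_combination this

/-- The block sizes, indexed. -/
noncomputable def mdims (μ : Multiset ℕ) : Fin μ.toList.length → ℕ := fun k => μ.toList.get k

theorem mdims_map (μ : Multiset ℕ) : Finset.univ.val.map (mdims μ) = μ := by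
  rw [Fin.univ_val_map]
  show ((List.ofFn μ.toList.get : List ℕ) : Multiset ℕ) = _
  rw [List.ofFn_get, Multiset.coe_toList]

theorem mdims_mem {μ : Multiset ℕ} (k : Fin μ.toList.length) : mdims μ k ∈ μ :=
  Multiset.mem_toList.1 (List.get_mem _ k)

theorem sum_mdims_sub (μ : Multiset ℕ) (j : ℕ) : ∑ k, (mdims μ k - j) = LinFix.blockRank μ j := by
  conv_rhs => rw [LinFix.blockRank, ← mdims_map μ, Multiset.map_map]
  rfl

theorem count_mdims (μ : Multiset ℕ) (j : ℕ) :
    (Finset.univ.filter fun k => mdims μ k = j).card = μ.count j := by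
  conv_rhs => rw [← mdims_map μ, Multiset.count_map]
  rw [Finset.card_def, Finset.filter_val]
  congr 1
  exact Multiset.filter_congr fun k _ => eq_comm

theorem image_mdims (μ : Multiset ℕ) : Finset.univ.image (mdims μ) = μ.toFinset := by
  rw [Finset.image, mdims_map]

section Form

variable {t : ℕ} {d : Fin t → ℕ} (B : V →ₗ[F] V →ₗ[F] F)

/-- The matrix of a form in coordinates. -/
noncomputable def fmat (e : (Idx d → F) ≃ₗ[F] V) : Matrix (Idx d) (Idx d) F :=
  LinearMap.toMatrix₂' F (B.compl₁₂ e.toLinearMap e.toLinearMap)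

variable {B} {G : V ≃ₗ[F] V}

theorem fmat_isInv (h : IsIsom B G) {e : (Idx d → F) ≃ₗ[F] V}
    (he : ∀ v, e (jt F d v) = G (e v)) : IsInv (fmat B e) := by
  refine ⟨?_, ?_⟩
  · ext i j
    simp only [fmat, Matrix.transpose_apply, Matrix.neg_apply, LinearMap.toMatrix₂'_apply,
      LinearMap.compl₁₂_apply]
    exact h.skew _ _
  · have key : (B.compl₁₂ e.toLinearMap e.toLinearMap).compl₁₂ (jt F d) (jt F d) =
        B.compl₁₂ e.toLinearMap e.toLinearMap :=
      LinearMap.ext₂ fun x y => by simp [he, h.inv]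
    have hJ : LinearMap.toMatrix' (jt F d) = Cfsg.jordanTypeMatrix d F :=
      LinearMap.toMatrix'_toLin' _
    rw [fmat, ← hJ, ← LinearMap.toMatrix₂'_compl₁₂, key]

theorem fmat_isUnit (h : IsIsom B G) (e : (Idx d → F) ≃ₗ[F] V) : IsUnit (fmat B e) := by
  rw [Matrix.isUnit_iff_isUnit_det, isUnit_iff_ne_zero]
  intro h0
  obtain ⟨v, hv0, hv⟩ := Matrix.exists_mulVec_eq_zero_iff.2 h0
  refine hv0 (e.map_eq_zero_iff.1 (h.nondeg _ fun w => ?_))
  obtain ⟨u, rfl⟩ := e.surjective w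
  have : B (e u) (e v) = u ⬝ᵥ fmat B e *ᵥ v := by
    rw [← Matrix.toLinearMap₂'_apply', fmat, Matrix.toLinearMap₂'_toMatrix']
    rfl
  rw [h.skew, this, hv, dotProduct_zero, neg_zero]

end Form

/-- The signed Jordan type of a unipotent isometry. -/
def IsUData (B : V →ₗ[F] V →ₗ[F] F) (G : V ≃ₗ[F] V) (μ : Multiset ℕ) (s : ℕ → Bool) : Prop :=
  ∃ (hpos : ∀ k, 0 < mdims μ k) (e : (Idx (mdims μ) → F) ≃ₗ[F] V),
    (∀ v, e (jt F (mdims μ) v) = G (e v)) ∧
      ∀ j, s j = true ↔ Even j ∧ j ∈ μ ∧ disc hpos (fmat B e) j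

open Classical in
theorem exists_udata [FiniteDimensional F V] {B : V →ₗ[F] V →ₗ[F] F} {G : V ≃ₗ[F] V}
    (h : IsIsom B G) (hnil : IsNilpotent (G.toLinearMap - 1)) :
    ∃ μ s, IsUType μ s ∧ μ.sum = Module.finrank F V ∧ IsUData B G μ s := by
  obtain ⟨μ, hμ, hr, -⟩ := LinFix.exists_blocks hnil ⊤ (LinFix.inv_top _)
  have hrank : ∀ j, Module.finrank F (LinearMap.range ((G.toLinearMap - 1) ^ j)) =
      ∑ k, (mdims μ k - j) := fun j => by
    rw [sum_mdims_sub, ← hr j, Submodule.map_top]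
  have hN : IsNilpotent (jt F (mdims μ) - 1) := ⟨Finset.univ.sup (mdims μ), by
    rw [← LinearMap.range_eq_bot, ← Submodule.finrank_eq_zero, finrank_range_jt]
    exact Finset.sum_eq_zero fun k _ =>
      Nat.sub_eq_zero_of_le (Finset.le_sup (f := mdims μ) (Finset.mem_univ k))⟩
  obtain ⟨e, he⟩ := CfsgLib.LinFix.exists_equiv_of_ranks hN hnil fun j => by
    rw [hrank, finrank_range_jt]
  have he' : ∀ v, e (jt F (mdims μ) v) = G (e v) := fun v => by
    have := he v
    simpa only [LinearMap.sub_apply, Module.End.one_apply, map_sub, sub_left_inj,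
      LinearEquiv.coe_coe] using this
  have hpos : ∀ k, 0 < mdims μ k := fun k => hμ _ (mdims_mem k)
  refine ⟨μ, fun j => decide (Even j ∧ j ∈ μ ∧ disc hpos (fmat B e) j), ⟨hμ, fun j hj => ?_,
    fun j hj => ?_⟩, ?_, hpos, e, he', fun j => by simp⟩
  · rw [← count_mdims]
    exact even_of_hasAlt (HasAlt.congr (w := G.toLinearMap) ⟨B, h.alt, h.nondeg, h.inv⟩ e he') hj
  · exact ⟨(of_decide_eq_true hj).1, (of_decide_eq_true hj).2.1⟩
  · have := hr 0
    rw [pow_zero, Module.End.one_eq_id, Submodule.map_id, finrank_top, LinFix.blockRank_zero] at this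
    exact this.symm

/-- Isometries with the same signed Jordan type are isometric. -/
theorem udata_intertwine [Finite F] (p : ℕ) [Fact p.Prime] [CharP F p] (hp : p ≠ 2)
    {V' : Type*} [AddCommGroup V'] [Module F V']
    {B : V →ₗ[F] V →ₗ[F] F} {G : V ≃ₗ[F] V} {B' : V' →ₗ[F] V' →ₗ[F] F} {G' : V' ≃ₗ[F] V'}
    (h : IsIsom B G) (h' : IsIsom B' G') {μ : Multiset ℕ} {s : ℕ → Bool}
    (hd : IsUData B G μ s) (hd' : IsUData B' G' μ s) :
    ∃ T : V ≃ₗ[F] V', (∀ x, T (G x) = G' (T x)) ∧ ∀ x y, B' (T x) (T y) = B x y := by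
  classical
  haveI := Fintype.ofFinite F
  obtain ⟨hpos, e, he, hs⟩ := hd
  obtain ⟨_, e', he', hs'⟩ := hd'
  obtain ⟨X, hXu, hX, hXe⟩ := rel_of_disc hpos p hp (fmat_isInv h' he') (fmat_isUnit h' e')
    (fmat_isInv h he) (fmat_isUnit h e) fun j hj hmem => by
      rw [image_mdims, Multiset.mem_toFinset] at hmem
      have e1 := hs j
      have e2 := hs' j
      simp only [hj, hmem, true_and] at e1 e2
      exact e2.symm.trans e1
  let L : (Idx (mdims μ) → F) ≃ₗ[F] (Idx (mdims μ) → F) :=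
    LinearEquiv.ofInjectiveEndo (Matrix.mulVecLin X) (Matrix.mulVec_injective_iff_isUnit.2 hXu)
  refine ⟨e.symm.trans (L.trans e'), fun x => ?_, fun x y => ?_⟩
  · obtain ⟨v, rfl⟩ := e.surjective x
    simp only [LinearEquiv.trans_apply, e.symm_apply_apply, ← he]
    rw [← he']
    congr 1
    show X *ᵥ (Cfsg.jordanTypeMatrix (mdims μ) F *ᵥ v) = Cfsg.jordanTypeMatrix (mdims μ) F *ᵥ (X *ᵥ v)
    rw [mulVec_mulVec, mulVec_mulVec, hX]
  · obtain ⟨u, rfl⟩ := e.surjective x
    obtain ⟨v, rfl⟩ := e.surjective y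
    simp only [LinearEquiv.trans_apply, e.symm_apply_apply]
    have key : (B'.compl₁₂ e'.toLinearMap e'.toLinearMap).compl₁₂ (Matrix.mulVecLin X) (Matrix.mulVecLin X) =
        B.compl₁₂ e.toLinearMap e.toLinearMap := by
      apply (LinearMap.toMatrix₂' F).injective
      rw [LinearMap.toMatrix₂'_compl₁₂, show LinearMap.toMatrix' (Matrix.mulVecLin X) = X from
        LinearMap.toMatrix'_toLin' X]
      exact hXe
    exact LinearMap.congr_fun₂ key u v

end CfsgLib.SpClassNum
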