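import Cfsg.Agent.Lib.SpClassNum.Numeric

/-!
The weighted count of the data of classes of the symplectic group.
-/

set_option autoImplicit false

namespace CfsgLib.SpClassNum

open Finset

/-- Bound for the self-reciprocal polynomials of degree `2d` without roots `±1`. -/
def cnt (q : ℕ) : ℕ → ℕ
  | 0 => 1
  | 1 => q - 2
  | e + 2 => q ^ e * (q - 1) ^ 2

/-- Bound for the signed pairs of multiplicities of total `m`. -/
def e2 (m : ℕ) : ℕ := if m = 0 then 1 else 4 * m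

/-- The weight of an index. -/
def wt (q D : ℕ) : ℕ := ∑ d ∈ range (D + 1), cnt q d * e2 (D - d)

theorem sum_pow_mul_sub (x : ℝ) : ∀ m : ℕ,
    (x - 1) ^ 2 * ∑ e ∈ range m, x ^ e * ((m : ℝ) - e) = x ^ (m + 1) - (m + 1) * x + m
  | 0 => by simp
  | m + 1 => by
    have h := sum_pow_mul_sub x m
    have g := geom_sum_mul x m
    have e : ∑ e ∈ range m, x ^ e * (((m + 1 : ℕ) : ℝ) - e) =
        (∑ e ∈ range m, x ^ e * ((m : ℝ) - e)) + ∑ e ∈ range m, x ^ e := by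
      rw [← sum_add_distrib]
      exact sum_congr rfl fun e _ => by push_cast; ring
    rw [sum_range_succ, e]
    push_cast
    linear_combination h + (x - 1) * g

theorem wt_zero (q : ℕ) : wt q 0 = 1 := by simp [wt, cnt, e2]

theorem wt_one {q : ℕ} (hq : 2 ≤ q) : wt q 1 = q + 2 := by
  simp [wt, cnt, e2, sum_range_succ]
  omega

theorem wt_add_two {q : ℕ} (hq : 2 ≤ q) (m : ℕ) :
    (wt q (m + 2) : ℝ) = ((q : ℝ) + 1) ^ 2 * (q : ℝ) ^ m := by
  have h := sum_pow_mul_sub (q : ℝ) m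
  rw [wt, sum_range_succ, sum_range_succ', sum_range_succ']
  simp only [Nat.cast_add, Nat.cast_sum, Nat.cast_mul]
  have e : ∀ e ∈ range m, (cnt q (e + 1 + 1) : ℝ) * (e2 (m + 2 - (e + 1 + 1)) : ℝ) =
      (4 * ((q : ℝ) - 1) ^ 2) * ((q : ℝ) ^ e * ((m : ℝ) - e)) := by
    intro e he
    have he' := mem_range.1 he
    rw [show m + 2 - (e + 1 + 1) = m - e by omega, e2, if_neg (by omega), cnt]
    push_cast [Nat.cast_sub (show 1 ≤ q by omega), Nat.cast_sub he'.le]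
    ring
  rw [sum_congr rfl e, ← mul_sum, show m + 2 - (0 + 1) = m + 1 by omega, Nat.sub_zero,
    Nat.sub_self]
  simp only [cnt, e2, if_neg (Nat.succ_ne_zero _), if_pos]
  push_cast [Nat.cast_sub (show 1 ≤ q by omega), Nat.cast_sub hq]
  rw [pow_succ] at h
  linear_combination 4 * h

theorem wt_le {q : ℕ} (hq : 2 ≤ q) (D : ℕ) :
    (wt q D : ℝ) ≤ (q : ℝ) ^ D * (1 + (q : ℝ)⁻¹) ^ 2 := by
  have hq0 : (0 : ℝ) < q := by exact_mod_cast (show 0 < q by omega)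
  have hy : 0 ≤ (q : ℝ)⁻¹ := inv_nonneg.2 hq0.le
  rcases D with _ | _ | m
  · rw [wt_zero, pow_zero, one_mul, Nat.cast_one]
    exact one_le_pow₀ (by linarith)
  · rw [wt_one hq]
    push_cast
    have : (q : ℝ) * (q : ℝ)⁻¹ = 1 := mul_inv_cancel₀ hq0.ne'
    nlinarith
  · rw [wt_add_two hq]
    refine le_of_eq ?_
    field_simp
    ring

theorem geom_le {z : ℝ} (h0 : 0 ≤ z) (h1 : z < 1) (N : ℕ) :
    ∑ e ∈ range N, z ^ e ≤ (1 - z)⁻¹ := by
  rw [← one_div, le_div_iff₀ (by linarith), geom_sum_mul_neg]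
  have := pow_nonneg h0 N
  linarith

theorem sum_wt_le {q : ℕ} (hq : 2 ≤ q) {x : ℝ} (hx : 0 ≤ x) (hqx : (q : ℝ) * x < 1) (N : ℕ) :
    ∑ D ∈ range N, (wt q D : ℝ) * x ^ D ≤ (1 + x) ^ 2 / (1 - q * x) := by
  refine le_trans (sum_le_sum_of_subset_of_nonneg
    (range_subset_range.2 (show N ≤ N + 2 by omega)) fun D _ _ => by positivity) ?_
  rw [sum_range_succ', sum_range_succ']
  have e : ∀ D ∈ range N, (wt q (D + 1 + 1) : ℝ) * x ^ (D + 1 + 1) =
      ((q : ℝ) + 1) ^ 2 * x ^ 2 * ((q : ℝ) * x) ^ D := fun D _ => by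
    rw [wt_add_two hq, mul_pow]
    ring
  rw [sum_congr rfl e, ← mul_sum, wt_zero, show 0 + 1 = 1 from rfl, wt_one hq]
  have hg := geom_le (mul_nonneg (Nat.cast_nonneg q) hx) hqx N
  have h2 : ((q : ℝ) + 1) ^ 2 * x ^ 2 * ∑ e ∈ range N, ((q : ℝ) * x) ^ e ≤
      ((q : ℝ) + 1) ^ 2 * x ^ 2 * (1 - q * x)⁻¹ := mul_le_mul_of_nonneg_left hg (by positivity)
  push_cast
  have hpos : (0 : ℝ) < 1 - q * x := by linarith
  refine le_of_le_of_eq (add_le_add (add_le_add h2 le_rfl) le_rfl) ?_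
  field_simp
  ring

/-- The parameters left after the first index is removed. -/
abbrev Box (m : ℕ) : Type :=
  (Fin m → Fin (m + 2)) × (Fin (m + 1) → Fin (m + 2)) × (Fin (m + 1) → Fin (m + 2))

/-- The weight of the parameters. -/
def bw {m : ℕ} (r : Box m) : ℕ :=
  (∑ i : Fin m, ((i : ℕ) + 2) * (r.1 i : ℕ)) + (∑ i : Fin (m + 1), (2 * (i : ℕ) + 1) * (r.2.1 i : ℕ)) +
    ∑ i : Fin (m + 1), (2 * (i : ℕ) + 1) * (r.2.2 i : ℕ)

/-- The totals of all indices. -/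
def full {m : ℕ} (r : Box m) : Fin (m + 1) → ℕ := Fin.cons (m + 1 - bw r) fun i => (r.1 i : ℕ)

theorem sum_le_bound {q : ℕ} (hq : 3 ≤ q) (m : ℕ) :
    5 * ∑ r ∈ univ.filter (fun r : Box m => bw r ≤ m + 1), ∏ i, wt q (full r i) ≤
      54 * q ^ (m + 1) := by
  suffices h : ((∑ r ∈ univ.filter (fun r : Box m => bw r ≤ m + 1), ∏ i, wt q (full r i) : ℕ) : ℝ) ≤
      (q : ℝ) ^ (m + 1) * (54 / 5) by
    rw [← Nat.cast_le (α := ℝ)]
    push_cast at h ⊢
    linarith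
  have hq0 : (0 : ℝ) < q := by exact_mod_cast (show 0 < q by omega)
  set y := (q : ℝ)⁻¹ with hy
  have hy0 : 0 ≤ y := inv_nonneg.2 hq0.le
  have hy3 : y ≤ 1 / 3 := by
    rw [hy, one_div]
    exact inv_anti₀ (by norm_num) (by exact_mod_cast hq)
  have hy1 : y < 1 := by linarith
  let A : Fin m → Fin (m + 2) → ℝ := fun i D => (wt q D : ℝ) * (y ^ ((i : ℕ) + 2)) ^ (D : ℕ)
  let O : Fin (m + 1) → Fin (m + 2) → ℝ := fun i o => (y ^ (2 * (i : ℕ) + 1)) ^ (o : ℕ)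
  have hterm : ∀ r ∈ univ.filter (fun r : Box m => bw r ≤ m + 1),
      ((∏ i, wt q (full r i) : ℕ) : ℝ) ≤ (q : ℝ) ^ (m + 1) * (1 + y) ^ 2 *
        ((∏ i, A i (r.1 i)) * ((∏ i, O i (r.2.1 i)) * ∏ i, O i (r.2.2 i))) := by
    intro r hr
    have hr' : bw r ≤ m + 1 := (mem_filter.1 hr).2
    rw [Fin.prod_univ_succ]
    simp only [full, Fin.cons_zero, Fin.cons_succ]
    push_cast
    have h0 : (q : ℝ) ^ (m + 1 - bw r) = (q : ℝ) ^ (m + 1) * y ^ bw r := by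
      rw [hy, inv_pow, pow_sub₀ _ hq0.ne' hr']
    refine le_of_le_of_eq (mul_le_mul_of_nonneg_right (wt_le (by omega) _) (by positivity)) ?_
    rw [h0, bw, pow_add y, pow_add y, ← prod_pow_eq_pow_sum, ← prod_pow_eq_pow_sum, ← prod_pow_eq_pow_sum]
    simp only [A, O, ← hy, pow_mul, prod_mul_distrib]
    ring
  rw [Nat.cast_sum]
  refine (sum_le_sum hterm).trans ?_
  have hA : ∀ i D, 0 ≤ A i D := fun i D => by positivity
  have hO : ∀ i o, 0 ≤ O i o := fun i D => by positivity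
  refine (sum_le_sum_of_subset_of_nonneg (subset_univ _) fun r _ _ => mul_nonneg (by positivity)
    (mul_nonneg (prod_nonneg fun i _ => hA _ _)
      (mul_nonneg (prod_nonneg fun i _ => hO _ _) (prod_nonneg fun i _ => hO _ _)))).trans ?_
  rw [← mul_sum, mul_assoc]
  refine mul_le_mul_of_nonneg_left ?_ (by positivity)
  simp only [Fintype.sum_prod_type, ← mul_sum, ← sum_mul, ← Fintype.prod_sum]
  refine le_trans ?_ (total_le hy0 hy3 m)
  rw [total_eq_prod]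
  have bA : ∀ i : Fin m, ∑ D, A i D ≤
      (1 + y ^ ((i : ℕ) + 2)) ^ 2 / (1 - y ^ ((i : ℕ) + 1)) := fun i => by
    have hqx : (q : ℝ) * y ^ ((i : ℕ) + 2) = y ^ ((i : ℕ) + 1) := by
      rw [pow_succ _ ((i : ℕ) + 1), hy]
      field_simp
    have hlt := pow_lt_one₀ hy0 hy1 (show (i : ℕ) + 1 ≠ 0 by omega)
    have := sum_wt_le (show 2 ≤ q by omega) (pow_nonneg hy0 ((i : ℕ) + 2)) (hqx.symm ▸ hlt) (m + 2)
    rw [hqx] at this
    refine le_of_eq_of_le ?_ this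
    exact Fin.sum_univ_eq_sum_range (fun D => (wt q D : ℝ) * (y ^ ((i : ℕ) + 2)) ^ D) (m + 2)
  have bO : ∀ i : Fin (m + 1), ∑ o, O i o ≤ (1 - y ^ (2 * (i : ℕ) + 1))⁻¹ := fun i =>
    le_of_eq_of_le (Fin.sum_univ_eq_sum_range (fun o => (y ^ (2 * (i : ℕ) + 1)) ^ o) (m + 2))
      (geom_le (pow_nonneg hy0 _) (pow_lt_one₀ hy0 hy1 (by omega)) _)
  have pA := prod_le_prod (fun i (_ : i ∈ (univ : Finset (Fin m))) => sum_nonneg fun D _ => hA i D)
    (fun i _ => bA i)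
  have pO := prod_le_prod (fun i (_ : i ∈ (univ : Finset (Fin (m + 1)))) => sum_nonneg fun D _ => hO i D)
    (fun i _ => bO i)
  refine le_of_le_of_eq (mul_le_mul_of_nonneg_left (mul_le_mul pA (mul_le_mul pO pO
    (prod_nonneg fun i _ => sum_nonneg fun D _ => hO i D)
    (le_trans (prod_nonneg fun i _ => sum_nonneg fun D _ => hO i D) pO))
    (mul_nonneg (prod_nonneg fun i _ => sum_nonneg fun D _ => hO i D)
      (prod_nonneg fun i _ => sum_nonneg fun D _ => hO i D))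
    (le_trans (prod_nonneg fun i _ => sum_nonneg fun D _ => hA i D) pA))
    (sq_nonneg _)) ?_
  rw [Fin.prod_univ_succ (f := fun i : Fin (m + 1) => (1 - y ^ (2 * (i : ℕ) + 1))⁻¹)]
  simp only [Fin.val_zero, Fin.val_succ, mul_zero, zero_add, pow_one]
  rw [← Fin.prod_univ_eq_prod_range]
  simp only [factor, show ∀ i : ℕ, i + 2 - 1 = i + 1 from fun i => rfl,
    show ∀ i : ℕ, 2 * (i + 1) + 1 = 2 * (i + 2) - 1 from fun i => by omega, prod_mul_distrib,
    prod_pow]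
  rw [div_eq_mul_inv ((1 + y) ^ 2), ← inv_pow]
  ring

end CfsgLib.SpClassNum
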