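import Mathlib

/-!
An isometry without eigenvalues `1`, `-1` determines its invariant symmetric or alternating form up to its
centraliser: every unit of a finite commutative ring of odd characteristic is a value of a unit
binary form `u² + e v²`.
-/

set_option autoImplicit false

namespace CfsgLib.SpClassNum

open Polynomial in
theorem exists_sq_add_field {K : Type*} [Field K] [Finite K] (h2 : (2 : K) ≠ 0) {e c : K}
    (he : e ≠ 0) : ∃ u v : K, u * u + e * (v * v) = c := by
  classical
  haveI := Fintype.ofFinite K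
  have hodd : Fintype.card K % 2 = 1 :=
    FiniteField.odd_card_of_char_ne_two fun h => h2 (by
      have := ringChar.Nat.cast_ringChar (R := K)
      rwa [h, Nat.cast_ofNat] at this)
  obtain ⟨a, b, h⟩ := FiniteField.exists_root_sum_quadratic (f := X ^ 2 - C c)
    (g := C e * X ^ 2) (degree_X_pow_sub_C (by norm_num) c) (degree_C_mul_X_pow 2 he) hodd
  refine ⟨a, b, ?_⟩
  simp only [eval_sub, eval_pow, eval_X, eval_C, eval_mul] at h
  linear_combination h

theorem exists_sq_add_ring {R : Type*} [CommRing R] [Finite R] (p : ℕ) [Fact p.Prime] [CharP R p]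
    (hp : p ≠ 2) {e c : R} (he : IsUnit e) (hc : IsUnit c) :
    ∃ u v : R, u * u + e * (v * v) = c := by
  classical
  have h2 : IsUnit (2 : R) := by
    obtain ⟨k, hk⟩ := (Fact.out : p.Prime).odd_of_ne_two hp
    refine IsUnit.of_mul_eq_one ((k + 1 : ℕ) : R) ?_
    have h := CharP.cast_eq_zero R p
    rw [hk] at h
    push_cast at h ⊢
    linear_combination h
  -- residue fields
  have hloc : ∀ I : MaximalSpectrum R, ∃ u v : R, u * u + e * (v * v) - c ∈ I.asIdeal := by
    intro I
    haveI := I.isMaximal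
    letI := Ideal.Quotient.field I.asIdeal
    haveI : Finite (R ⧸ I.asIdeal) := Finite.of_surjective _ Ideal.Quotient.mk_surjective
    let π := Ideal.Quotient.mk I.asIdeal
    obtain ⟨u, v, h⟩ := exists_sq_add_field (K := R ⧸ I.asIdeal)
      (fun h0 => I.isMaximal.ne_top (Ideal.eq_top_of_isUnit_mem _
        (Ideal.Quotient.eq_zero_iff_mem.1 (by rw [map_ofNat]; exact h0)) h2))
      (e := π e) (c := π c) (he.map π).ne_zero
    obtain ⟨u, rfl⟩ := Ideal.Quotient.mk_surjective u
    obtain ⟨v, rfl⟩ := Ideal.Quotient.mk_surjective v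
    refine ⟨u, v, Ideal.Quotient.eq.1 ?_⟩
    rw [map_add, map_mul, map_mul, map_mul]
    exact h
  choose u v huv using hloc
  have hcop : Pairwise fun I J : MaximalSpectrum R => IsCoprime I.asIdeal J.asIdeal := fun I J hne =>
    Ideal.isCoprime_iff_sup_eq.2 (I.isMaximal.coprime_of_ne J.isMaximal
      fun h => hne (MaximalSpectrum.ext h))
  obtain ⟨a, ha⟩ := Ideal.exists_forall_sub_mem_ideal hcop u
  obtain ⟨b, hb⟩ := Ideal.exists_forall_sub_mem_ideal hcop v
  obtain ⟨cu, rfl⟩ := hc
  set w : R := (a * a + e * (b * b)) * ↑cu⁻¹ with hw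
  have hnil : IsNilpotent (w - 1) := by
    rw [← mem_nilradical, nilradical_eq_sInf, Ideal.mem_sInf]
    intro P (hP : P.IsPrime)
    haveI : P.IsPrime := hP
    have hm : P.IsMaximal := inferInstance
    let I : MaximalSpectrum R := ⟨P, hm⟩
    have h1 : a * a + e * (b * b) - ↑cu ∈ P := by
      have e1 : a * a + e * (b * b) - ↑cu = (a + u I) * (a - u I) + e * ((b + v I) * (b - v I)) +
          (u I * u I + e * (v I * v I) - ↑cu) := by ring
      rw [e1]
      exact P.add_mem (P.add_mem (P.mul_mem_left _ (ha I))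
        (P.mul_mem_left _ (P.mul_mem_left _ (hb I)))) (huv I)
    have e2 : w - 1 = (a * a + e * (b * b) - ↑cu) * ↑cu⁻¹ := by
      rw [hw, sub_mul, Units.mul_inv]
    rw [e2]
    exact P.mul_mem_right _ h1
  obtain ⟨N, hN⟩ := hnil
  have hwp : w ^ p ^ N = 1 := by
    have h := sub_pow_char_pow (R := R) (p := p) (n := N) (x := w) (y := 1)
    rw [pow_eq_zero_of_le (Nat.lt_pow_self (Fact.out : p.Prime).one_lt).le hN, one_pow] at h
    exact (sub_eq_zero.1 h.symm)
  obtain ⟨k, hk⟩ : Odd (p ^ N) := ((Fact.out : p.Prime).odd_of_ne_two hp).pow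
  refine ⟨a * w ^ k, b * w ^ k, ?_⟩
  have : w ^ k * w ^ k * w = 1 := by rw [← pow_add, ← pow_succ, show k + k + 1 = p ^ N by omega, hwp]
  calc a * w ^ k * (a * w ^ k) + e * (b * w ^ k * (b * w ^ k))
      = (a * a + e * (b * b)) * (↑cu⁻¹ * ↑cu) * (w ^ k * w ^ k) := by rw [Units.inv_mul]; ring
    _ = ↑cu * (w ^ k * w ^ k * w) := by rw [hw]; ring
    _ = _ := by rw [this, mul_one]

variable {F : Type*} [Field F] [Finite F] {V : Type*} [AddCommGroup V] [Module F V]
  [FiniteDimensional F V]

/-- Two invariant forms of the same symmetry of an isometry without eigenvalues `±1` differ by an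
element of the centraliser. -/
theorem exists_centraliser_congr_of_sym (h2 : (2 : F) ≠ 0) (B B' : V →ₗ[F] V →ₗ[F] F) (ε : F)
    (hB : ∀ x y, B x y = ε * B y x) (hBn : ∀ v, (∀ w, B v w = 0) → v = 0)
    (hB' : ∀ x y, B' x y = ε * B' y x) (hBn' : ∀ v, (∀ w, B' v w = 0) → v = 0)
    (g : V ≃ₗ[F] V) (hg : ∀ x y, B (g x) (g y) = B x y) (hg' : ∀ x y, B' (g x) (g y) = B' x y)
    (h1 : ∀ v, g v = v → v = 0) (hm : ∀ v, g v = -v → v = 0) :
    ∃ T : V ≃ₗ[F] V, (∀ x, T (g x) = g (T x)) ∧ ∀ x y, B (T x) (T y) = B' x y := by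
  classical
  rcases subsingleton_or_nontrivial V with hV | hV
  · exact ⟨LinearEquiv.refl F V, fun x => rfl, fun x y => by
      rw [Subsingleton.elim x 0]; simp⟩
  haveI : Finite V := Module.finite_of_finite F
  -- the ratio of the forms
  have hinj : Function.Injective B := fun x y h => sub_eq_zero.1 (hBn _ fun w => by
    rw [map_sub, h, sub_self, LinearMap.zero_apply])
  let eB : V ≃ₗ[F] Module.Dual F V := LinearEquiv.ofBijective B
    ⟨hinj, (LinearMap.injective_iff_surjective_of_finrank_eq_finrank
      (Subspace.dual_finrank_eq).symm).1 hinj⟩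
  let Cm : Module.End F V := eB.symm.toLinearMap ∘ₗ B'
  have hC : ∀ x y, B (Cm x) y = B' x y := fun x y =>
    congrArg (fun f : Module.Dual F V => f y) (eB.apply_symm_apply (B' x))
  have hCinj : Function.Injective Cm := fun x y h => sub_eq_zero.1 (hBn' _ fun w => by
    rw [← hC, map_sub, h, sub_self, map_zero, LinearMap.zero_apply])
  have hCg : ∀ x, Cm (g x) = g (Cm x) := fun x => hinj (LinearMap.ext fun y => by
    obtain ⟨y, rfl⟩ := g.surjective y
    rw [hC, hg', hg, hC])
  have hgs : ∀ x, Cm (g.symm x) = g.symm (Cm x) := fun x => g.injective (by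
    rw [← hCg, g.apply_symm_apply, g.apply_symm_apply])
  have hgB : ∀ x y, B (g x) y = B x (g.symm y) := fun x y => by
    conv_lhs => rw [← g.apply_symm_apply y, hg]
  have hgB' : ∀ x y, B (g.symm x) y = B x (g y) := fun x y => by
    conv_rhs => rw [← g.apply_symm_apply x, hg]
  let G : Module.End F V := g.toLinearMap
  let G' : Module.End F V := g.symm.toLinearMap
  let S : Set (Module.End F V) := {Cm, G + G'}
  have hcomm : ∀ a ∈ S, ∀ b ∈ S, a * b = b * a := by
    have key : Cm * (G + G') = (G + G') * Cm := LinearMap.ext fun x => by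
      simp [G, G', hCg, hgs]
    rintro a (rfl | rfl) b (rfl | rfl) <;> first | rfl | exact key | exact key.symm
  haveI hMC := Algebra.isMulCommutative_adjoin F hcomm
  let R := Algebra.adjoin F S
  letI : CommRing R := { (inferInstance : Ring R) with mul_comm := mul_comm' }
  haveI : Finite (Module.End F V) := Finite.of_injective (fun f => (f : V → V)) DFunLike.coe_injective
  haveI : Finite R := Subtype.finite
  obtain ⟨p, hchar⟩ := CharP.exists F
  haveI hpp : Fact p.Prime := ⟨CharP.char_is_prime F p⟩
  have hp : p ≠ 2 := fun h => h2 (by subst h; exact_mod_cast CharP.cast_eq_zero F 2)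
  haveI : Nontrivial R := ⟨⟨0, 1, fun h => zero_ne_one (α := Module.End F V) (congrArg Subtype.val h)⟩⟩
  haveI : CharP R p := charP_of_injective_algebraMap (algebraMap F R).injective p
  have unit_of_inj : ∀ r : R, Function.Injective (r : Module.End F V) → IsUnit r := fun r hr => by
    have hi : Function.Injective (fun x : R => r * x) := fun x y h => Subtype.ext (LinearMap.ext fun w =>
      hr (LinearMap.congr_fun (congrArg Subtype.val h) w))
    obtain ⟨x, hx⟩ := Finite.injective_iff_surjective.1 hi 1
    exact IsUnit.of_mul_eq_one x hx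
  let c : R := ⟨Cm, Algebra.subset_adjoin (Set.mem_insert _ _)⟩
  let s : R := ⟨G + G', Algebra.subset_adjoin (Set.mem_insert_of_mem _ rfl)⟩
  let half : R := algebraMap F R 2⁻¹
  have hhalf : half * 2 = 1 := by
    rw [← map_ofNat (algebraMap F R) 2, ← map_mul, inv_mul_cancel₀ h2, map_one]
  let e : R := 1 - half * half * (s * s)
  have he : IsUnit e := by
    have hf : IsUnit (4 - s * s) := by
      refine unit_of_inj _ fun x y hxy => sub_eq_zero.1 ?_
      have h0 : ((4 - s * s : R) : Module.End F V) (x - y) = 0 := by rw [map_sub, hxy, sub_self]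
      set z := x - y
      have h0' : (4 : F) • z - ((g (g z) + z) + (z + g.symm (g.symm z))) = 0 := by
        have e4 : ((4 : R) : Module.End F V) z = (4 : F) • z := by
          rw [← map_ofNat (algebraMap F R) 4]; rfl
        rw [← e4, ← h0]
        simp [s, G, G', map_add]
      -- `(g - 1)² (g + 1)² z = 0`
      have e5 := congrArg (fun t => g (g t)) h0'
      simp only [map_sub, map_add, map_smul, LinearEquiv.apply_symm_apply, map_zero] at e5
      have e6 : g (g (g (g z) - z)) - (g (g z) - z) = 0 := by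
        simp only [map_sub]
        linear_combination (norm := module) -e5
      have stepA : ∀ w : V, g (g w) - w = 0 → w = 0 := fun w hw => by
        have : g w + w = 0 := h1 _ (by rw [map_add, sub_eq_zero.1 hw, add_comm])
        exact hm w (eq_neg_of_add_eq_zero_left this)
      exact stepA _ (stepA _ e6)
    have : IsUnit (half * half * (4 - s * s)) :=
      ((IsUnit.of_mul_eq_one 2 hhalf).mul (IsUnit.of_mul_eq_one 2 hhalf)).mul hf
    convert this using 1
    linear_combination (-(half * 2 + 1)) * hhalf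
  obtain ⟨u, v, huv⟩ := exists_sq_add_ring p hp he (unit_of_inj c hCinj)
  let a : R := u - half * s * v
  have hab : a * a + s * (a * v) + v * v = c := by
    linear_combination huv + (-(s * v * a)) * hhalf
  -- self-adjointness
  have sa : ∀ r : R, ∀ x y, B ((r : Module.End F V) x) y = B x ((r : Module.End F V) y) := by
    rintro ⟨r, hr⟩
    show ∀ x y, B (r x) y = B x (r y)
    refine (Algebra.adjoin_induction (p := fun q _ => (∀ x y, B (q x) y = B x (q y)) ∧
      ∀ x, q (g x) = g (q x)) ?_ ?_ ?_ ?_ hr).1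
    · rintro q (rfl | rfl)
      · exact ⟨fun x y => by rw [hC, hB' x y, ← hC, ← hB x (Cm y)], hCg⟩
      · exact ⟨fun x y => by simp [G, G', hgB, hgB', add_comm],
          fun x => by simp [G, G']⟩
    · intro t
      exact ⟨fun x y => by simp [Module.algebraMap_end_apply], fun x => by
        simp [Module.algebraMap_end_apply]⟩
    · rintro q q' - - ⟨hq, hqg⟩ ⟨hq', hqg'⟩
      exact ⟨fun x y => by simp [hq, hq'], fun x => by simp [hqg, hqg']⟩
    · rintro q q' hqR hqR' ⟨hq, hqg⟩ ⟨hq', hqg'⟩
      refine ⟨fun x y => ?_, fun x => by rw [Module.End.mul_apply, Module.End.mul_apply, hqg', hqg]⟩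
      rw [Module.End.mul_apply, hq, hq']
      congr 1
      exact (LinearMap.congr_fun (congrArg Subtype.val
        (mul_comm (⟨q, hqR⟩ : R) ⟨q', hqR'⟩)) y).symm
  have gcomm : ∀ r : R, ∀ x, (r : Module.End F V) (g x) = g ((r : Module.End F V) x) := by
    rintro ⟨r, hr⟩
    refine Algebra.adjoin_induction (p := fun q _ => ∀ x, q (g x) = g (q x)) ?_ ?_ ?_ ?_ hr
    · rintro q (rfl | rfl)
      · exact hCg
      · exact fun x => by simp [G, G']
    · intro t x; simp [Module.algebraMap_end_apply]
    · intro q q' _ _ hq hq' x; simp [hq, hq']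
    · intro q q' _ _ hq hq' x; simp [hq, hq']
  let A : Module.End F V := a
  let Bv : Module.End F V := v
  let T : Module.End F V := A + Bv * G
  have hTg : ∀ x, T (g x) = g (T x) := fun x => by
    simp [T, A, Bv, G, gcomm]
  have hTB : ∀ x y, B (T x) (T y) = B' x y := by
    intro x y
    have hAB : ∀ z, A (Bv z) = Bv (A z) := fun z =>
      LinearMap.congr_fun (congrArg Subtype.val (mul_comm a v)) z
    have key : B' x y = B x ((A * A + (G + G') * (A * Bv) + Bv * Bv) y) := by
      rw [← hC]
      rw [show Cm = ((a * a + s * (a * v) + v * v : R) : Module.End F V) by rw [hab], sa]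
      rfl
    rw [key]
    have hgs' : ∀ (r : R) z, (r : Module.End F V) (g.symm z) = g.symm ((r : Module.End F V) z) :=
      fun r z => g.injective (by rw [← gcomm, g.apply_symm_apply, g.apply_symm_apply])
    simp only [T, G, G', LinearMap.add_apply, Module.End.mul_apply, LinearEquiv.coe_coe, map_add,
      LinearMap.add_apply]
    rw [show B (A x) (A y) = B x (A (A y)) from sa a x _,
      show B (A x) (Bv (g y)) = B x (g (A (Bv y))) by rw [sa a x, gcomm v, gcomm a],
      show B (Bv (g x)) (A y) = B x (g.symm (A (Bv y))) by rw [sa v, hgB, ← hAB],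
      show B (Bv (g x)) (Bv (g y)) = B x (Bv (Bv y)) by
        rw [gcomm v, gcomm v, hg, sa v]]
    ring
  have hTinj : Function.Injective T := fun x y h => sub_eq_zero.1 (hBn' _ fun w => by
    rw [← hTB, map_sub, h, sub_self, map_zero, LinearMap.zero_apply])
  exact ⟨LinearEquiv.ofInjectiveEndo T hTinj, hTg, hTB⟩

/-- Two invariant alternating forms of an isometry without eigenvalues `±1` differ by an element of
the centraliser. -/
theorem exists_centraliser_congr (h2 : (2 : F) ≠ 0) (B B' : V →ₗ[F] V →ₗ[F] F)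
    (hB : ∀ v, B v v = 0) (hBn : ∀ v, (∀ w, B v w = 0) → v = 0)
    (hB' : ∀ v, B' v v = 0) (hBn' : ∀ v, (∀ w, B' v w = 0) → v = 0)
    (g : V ≃ₗ[F] V) (hg : ∀ x y, B (g x) (g y) = B x y) (hg' : ∀ x y, B' (g x) (g y) = B' x y)
    (h1 : ∀ v, g v = v → v = 0) (hm : ∀ v, g v = -v → v = 0) :
    ∃ T : V ≃ₗ[F] V, (∀ x, T (g x) = g (T x)) ∧ ∀ x y, B (T x) (T y) = B' x y := by
  have swap : ∀ {b : V →ₗ[F] V →ₗ[F] F}, (∀ v, b v v = 0) → ∀ x y, b x y = (-1 : F) * b y x := by
    intro b hb x y
    have := hb (x + y)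
    simp only [map_add, LinearMap.add_apply, hb, zero_add, add_zero] at this
    linear_combination this
  exact exists_centraliser_congr_of_sym h2 B B' (-1) (swap hB) hBn (swap hB') hBn' g hg hg' h1 hm

end CfsgLib.SpClassNum
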