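import Cfsg.Agent.Lib.ClassNum.Bound
import Cfsg.Agent.Lib.SpClassNum.Norm
import Cfsg.Agent.Lib.SpClassNum.Unip

/-!
Isometries without eigenvalues `±1`: the label is self-reciprocal and determines the class.
-/

set_option autoImplicit false

namespace CfsgLib.SpClassNum

open Polynomial CfsgLib.ClassNum

variable {F : Type*} [Field F]

/-- The monic reciprocal. -/
noncomputable def recip (f : F[X]) : F[X] := C (f.coeff 0)⁻¹ * f.reverse

theorem natDegree_reverse_eq {f : F[X]} (h : f.coeff 0 ≠ 0) : f.reverse.natDegree = f.natDegree := by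
  rw [reverse_natDegree, natTrailingDegree_eq_zero.2 (Or.inr h), Nat.sub_zero]

theorem reverse_reverse_eq {f : F[X]} (h : f.coeff 0 ≠ 0) : f.reverse.reverse = f := by
  ext i
  rw [coeff_reverse, coeff_reverse, natDegree_reverse_eq h, revAt_invol]

theorem recip_monic {f : F[X]} (h : f.coeff 0 ≠ 0) : (recip f).Monic := by
  rw [Monic.def, recip, leadingCoeff_mul, leadingCoeff_C, reverse_leadingCoeff, trailingCoeff,
    natTrailingDegree_eq_zero.2 (Or.inr h), inv_mul_cancel₀ h]

theorem coeff_zero_recip {f : F[X]} (hm : f.Monic) : (recip f).coeff 0 = (f.coeff 0)⁻¹ := by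
  rw [recip, coeff_C_mul, coeff_zero_reverse, hm.leadingCoeff, mul_one]

theorem recip_recip {f : F[X]} (hm : f.Monic) (h : f.coeff 0 ≠ 0) : recip (recip f) = f := by
  rw [recip, coeff_zero_recip hm, inv_inv, recip, reverse_mul_of_domain, reverse_C,
    reverse_reverse_eq h, ← mul_assoc, ← C_mul, mul_inv_cancel₀ h, C_1, one_mul]

theorem natDegree_recip {f : F[X]} (h : f.coeff 0 ≠ 0) : (recip f).natDegree = f.natDegree := by
  rw [recip, natDegree_C_mul (inv_ne_zero h), natDegree_reverse_eq h]

theorem recip_irreducible {f : F[X]} (hf : Irreducible f) (h : f.coeff 0 ≠ 0) :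
    Irreducible (recip f) := by
  have hu : ∀ {a : F[X]}, a.natDegree = 0 → a ≠ 0 → IsUnit a := fun ha ha0 =>
    isUnit_iff_degree_eq_zero.2 (by rw [degree_eq_natDegree ha0, ha]; rfl)
  refine (irreducible_isUnit_mul (isUnit_C.2 (Ne.isUnit (inv_ne_zero h)))).2
    ⟨fun hun => hf.natDegree_pos.ne' ?_, fun a b hab => ?_⟩
  · rw [← natDegree_reverse_eq h]; exact natDegree_eq_zero_of_isUnit hun
  · have hf' : f = a.reverse * b.reverse := by
      rw [← reverse_mul_of_domain, ← hab, reverse_reverse_eq h]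
    have h0 : (f.reverse).coeff 0 ≠ 0 := by
      rw [coeff_zero_reverse]; exact leadingCoeff_ne_zero.2 hf.ne_zero
    rw [hab, mul_coeff_zero, mul_ne_zero_iff] at h0
    rcases hf.isUnit_or_isUnit hf' with h' | h'
    · exact Or.inl (hu (by rw [← natDegree_reverse_eq h0.1]; exact natDegree_eq_zero_of_isUnit h')
        (fun e => h0.1 (by rw [e, coeff_zero])))
    · exact Or.inr (hu (by rw [← natDegree_reverse_eq h0.2]; exact natDegree_eq_zero_of_isUnit h')
        (fun e => h0.2 (by rw [e, coeff_zero])))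

theorem recip_mul (f g : F[X]) : recip (f * g) = recip f * recip g := by
  rw [recip, recip, recip, mul_coeff_zero, mul_inv, C_mul, reverse_mul_of_domain]
  ring

theorem recip_one : recip (1 : F[X]) = 1 := by
  rw [recip, ← C_1, coeff_C_zero, inv_one, reverse_C, C_1, one_mul]

theorem recip_pow (f : F[X]) : ∀ k : ℕ, recip (f ^ k) = recip f ^ k
  | 0 => by rw [pow_zero, pow_zero, recip_one]
  | k + 1 => by rw [pow_succ, pow_succ, recip_mul, recip_pow f k]

theorem aeval_reverse {A : Type*} [Ring A] [Algebra F A] {a b : A} (hab : a * b = 1)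
    (hba : b * a = 1) (f : F[X]) : aeval a f.reverse = a ^ f.natDegree * aeval b f := by
  have hc : ∀ i, a ^ i * b ^ i = 1 := fun i => by
    rw [← (show Commute a b from hab.trans hba.symm).mul_pow, hab, one_pow]
  rw [aeval_eq_sum_range' (Nat.lt_succ_of_le (reverse_natDegree_le f)), aeval_eq_sum_range,
    Finset.mul_sum]
  conv_rhs => rw [← Finset.sum_range_reflect]
  refine Finset.sum_congr rfl fun i hi => ?_
  have hi' := Nat.lt_succ_iff.1 (Finset.mem_range.1 hi)
  rw [coeff_reverse, revAt_le hi', show f.natDegree + 1 - 1 - i = f.natDegree - i by omega,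
    mul_smul_comm]
  congr 1
  conv_rhs => rw [show f.natDegree = i + (f.natDegree - i) by omega, pow_add]
  rw [show i + (f.natDegree - i) - i = f.natDegree - i by omega, mul_assoc, hc, mul_one]

section Rank

variable {k : ℕ}

open Matrix in
theorem rank_recip (M J : Matrix (Fin k) (Fin k) F) (hJ : IsUnit J.det) (hM : IsUnit M.det)
    (hinv : Mᵀ * J * M = J) {h : F[X]} (h0 : h.coeff 0 ≠ 0) :
    Module.finrank F (LinearMap.range (Matrix.toLin' (aeval M (recip h)))) =
      Module.finrank F (LinearMap.range (Matrix.toLin' (aeval M h))) := by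
  show (aeval M (recip h)).rank = (aeval M h).rank
  have e1 : (aeval M (recip h)) = ((h.coeff 0)⁻¹ • M ^ h.natDegree) * aeval M⁻¹ h := by
    rw [recip, map_mul, aeval_C, aeval_reverse (mul_nonsing_inv M hM) (nonsing_inv_mul M hM),
      ← Algebra.smul_def, smul_mul_assoc]
  rw [e1, rank_mul_eq_right_of_isUnit_det _ _ (by
    rw [det_smul, det_pow]
    exact (Ne.isUnit (pow_ne_zero _ (inv_ne_zero h0))).mul (hM.pow _))]
  have hs : SemiconjBy J M⁻¹ Mᵀ := by
    show J * M⁻¹ = Mᵀ * J
    conv_lhs => rw [← hinv]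
    rw [Matrix.mul_assoc, mul_nonsing_inv M hM, Matrix.mul_one]
  have e2 : J * aeval M⁻¹ h = (aeval M h)ᵀ * J := by
    rw [aeval_eq_sum_range, aeval_eq_sum_range, transpose_sum, Finset.mul_sum, Finset.sum_mul]
    refine Finset.sum_congr rfl fun i _ => ?_
    rw [transpose_smul, transpose_pow, Matrix.mul_smul, Matrix.smul_mul, (hs.pow_right i).eq]
  rw [← rank_mul_eq_right_of_isUnit_det J (aeval M⁻¹ h) hJ, e2,
    rank_mul_eq_left_of_isUnit_det J _ hJ, rank_transpose]

theorem exists_kernel_vec {M : Matrix (Fin k) (Fin k) F} (D : Decomp M) (j : D.ι) :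
    ∃ x, x ≠ 0 ∧ (aeval M (D.p j)).mulVec x = 0 := by
  classical
  obtain ⟨x, hx⟩ := D.iso.surjective (Pi.single j (AdjoinRoot.mk _ (D.p j ^ (D.e j - 1))))
  refine ⟨x, fun h0 => ?_, ?_⟩
  · rw [h0, map_zero] at hx
    have h2 := (congrFun hx j).symm
    rw [Pi.single_eq_same, Pi.zero_apply, AdjoinRoot.mk_eq_zero,
      pow_dvd_pow_iff (D.irred j).ne_zero (D.irred j).not_isUnit] at h2
    have := D.pos j
    omega
  · apply D.iso.injective
    rw [map_zero]
    funext i
    rw [D.iso_aeval, hx, mulBy_apply]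
    rcases eq_or_ne i j with rfl | hi
    · rw [Pi.single_eq_same, ← map_mul, Pi.zero_apply, AdjoinRoot.mk_eq_zero, ← pow_succ',
        Nat.sub_add_cancel (D.pos i)]
    · rw [Pi.single_eq_of_ne hi, mul_zero]; rfl

theorem recip_label {M : Matrix (Fin k) (Fin k) F} (D : Decomp M) (J : Matrix (Fin k) (Fin k) F)
    (hJ : IsUnit J.det) (hM : IsUnit M.det) (hinv : M.transpose * J * M = J) (i : ℕ) :
    recip (D.label i) = D.label i := by
  classical
  have hne : ∀ j, (D.p j).coeff 0 ≠ 0 := D.coeff_zero_ne hM.ne_zero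
  have hμ : ∀ f : F[X], f.Monic → Irreducible f → f.coeff 0 ≠ 0 →
      (D.factorsAt i).count (recip f) = (D.factorsAt i).count f := by
    intro f hm hirr h0
    set μ := (Finset.univ.filter fun j => D.p j = f).val.map D.e with hμ
    set μ' := (Finset.univ.filter fun j => D.p j = recip f).val.map D.e with hμ'
    have key : ∀ k', f.natDegree * LinFix.blockRank μ' k' +
        ∑ j ∈ Finset.univ.filter (fun j => ¬ D.p j = recip f), D.e j * (D.p j).natDegree =
        f.natDegree * LinFix.blockRank μ k' +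
        ∑ j ∈ Finset.univ.filter (fun j => ¬ D.p j = f), D.e j * (D.p j).natDegree := fun k' => by
      have h1 := D.rank_formula (recip_monic h0) (recip_irreducible hirr h0) k'
      rw [natDegree_recip h0, ← recip_pow, rank_recip M J hJ hM hinv
        (by rw [coeff_zero_eq_eval_zero, eval_pow, ← coeff_zero_eq_eval_zero]
            exact pow_ne_zero _ h0), D.rank_formula hm hirr k'] at h1
      exact h1.symm
    have hb : ∀ g : F[X], LinFix.blockRank ((Finset.univ.filter fun j => D.p j = g).val.map D.e) k = 0 := by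
      intro g
      rw [LinFix.blockRank, Multiset.map_map]
      refine Multiset.sum_eq_zero fun x hx => ?_
      obtain ⟨j, -, rfl⟩ := Multiset.mem_map.1 hx
      exact Nat.sub_eq_zero_of_le (D.e_le j)
    have hR := key k
    rw [hb, hb, mul_zero, zero_add, zero_add] at hR
    have hμμ : μ' = μ := by
      refine LinFix.eq_of_blockRank ?_ ?_ fun k' => ?_
      · intro a ha; obtain ⟨j, -, rfl⟩ := Multiset.mem_map.1 ha; exact D.pos j
      · intro a ha; obtain ⟨j, -, rfl⟩ := Multiset.mem_map.1 ha; exact D.pos j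
      · have := key k'
        rw [hR, add_left_inj] at this
        exact Nat.eq_of_mul_eq_mul_left hirr.natDegree_pos this
    have := congrArg (Multiset.count i) hμμ
    rw [hμ, hμ', Multiset.count_map, Multiset.count_map, ← Finset.filter_val, ← Finset.filter_val,
      Finset.filter_filter, Finset.filter_filter] at this
    rw [D.count_factorsAt, D.count_factorsAt]
    simpa [eq_comm, Finset.card_def] using this
  have hmem : ∀ a ∈ D.factorsAt i, a.Monic ∧ Irreducible a ∧ a.coeff 0 ≠ 0 := fun a ha => by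
    obtain ⟨j, -, rfl⟩ := Multiset.mem_map.1 ha
    exact ⟨D.monic j, D.irred j, hne j⟩
  have hmap : (D.factorsAt i).map recip = D.factorsAt i := Multiset.ext.2 fun g => by
    by_cases hg : g.Monic ∧ Irreducible g ∧ g.coeff 0 ≠ 0
    · rw [Multiset.count_map, ← hμ g hg.1 hg.2.1 hg.2.2, Multiset.count_eq_card_filter_eq]
      refine congrArg Multiset.card (Multiset.filter_congr fun a ha => ?_)
      exact ⟨fun h => by rw [h, recip_recip (hmem a ha).1 (hmem a ha).2.2],
        fun h => by rw [← h, recip_recip hg.1 hg.2.2]⟩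
    · rw [Multiset.count_eq_zero.2 fun h => ?_, Multiset.count_eq_zero.2 fun h => hg (hmem g h)]
      obtain ⟨a, ha, rfl⟩ := Multiset.mem_map.1 h
      obtain ⟨hm, hi, h0⟩ := hmem a ha
      exact hg ⟨recip_monic h0, recip_irreducible hi h0, by
        rw [coeff_zero_recip hm]; exact inv_ne_zero h0⟩
  rw [← D.prod_factorsAt]
  have hprod : ∀ s : Multiset F[X], recip s.prod = (s.map recip).prod := fun s => by
    induction s using Multiset.induction_on with
    | empty => simp [recip_one]
    | cons a s ih => rw [Multiset.prod_cons, Multiset.map_cons, Multiset.prod_cons, recip_mul, ih]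
  rw [hprod, hmap]

end Rank

theorem isSR_of_recip (h2 : (2 : F) ≠ 0) {f : F[X]} (hm : f.Monic) (hr : recip f = f)
    (h0 : f.coeff 0 ≠ 0) (h1 : f.eval 1 ≠ 0) (hn : f.eval (-1) ≠ 0) : IsSR f := by
  have hrev : f.reverse = C (f.coeff 0) * f := by
    have := congrArg (fun g => C (f.coeff 0) * g) hr
    simpa [recip, ← mul_assoc, ← C_mul, mul_inv_cancel₀ h0] using this
  have e1 := aeval_reverse (F := F) (show (1 : F) * 1 = 1 by simp) (by simp) f
  simp only [coe_aeval_eq_eval, one_pow, one_mul] at e1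
  rw [hrev, eval_mul, eval_C] at e1
  have hc : f.coeff 0 = 1 := (mul_eq_right₀ h1).1 e1
  rw [hc, C_1, one_mul] at hrev
  have e2 := aeval_reverse (F := F) (show (-1 : F) * -1 = 1 by simp) (by simp) f
  simp only [coe_aeval_eq_eval] at e2
  rw [hrev] at e2
  refine ⟨hm, (neg_one_pow_eq_one_iff_even fun h => h2 ?_).1 ((mul_eq_right₀ hn).1 e2.symm),
    fun j hj => ?_, h1, hn⟩
  · linear_combination -h
  · have := congrArg (fun g : F[X] => g.coeff j) hrev
    simp only [coeff_reverse, revAt_le hj] at this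
    exact this

variable {V : Type*} [AddCommGroup V] [Module F V]

/-- The label of a map in some coordinates. -/
def IsLData (G : V ≃ₗ[F] V) (v : ℕ → F[X]) : Prop :=
  ∃ (k : ℕ) (e : V ≃ₗ[F] (Fin k → F)) (M : Matrix (Fin k) (Fin k) F),
    (∀ x, e (G x) = M.mulVec (e x)) ∧ lab M = v

/-- An isometry without eigenvalues `±1` has a self-reciprocal label. -/
theorem exists_ldata [FiniteDimensional F V] (h2 : (2 : F) ≠ 0) {B : V →ₗ[F] V →ₗ[F] F}
    {G : V ≃ₗ[F] V} (h : IsIsom B G) (h1 : ∀ v, G v = v → v = 0) (hn : ∀ v, G v = -v → v = 0) :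
    ∃ v : ℕ → F[X], (∀ i, IsSR (v i)) ∧ v 0 = 1 ∧ (∀ i, Module.finrank F V < i → v i = 1) ∧
      (∑ i ∈ Finset.range (Module.finrank F V + 1), i * (v i).natDegree = Module.finrank F V) ∧
      IsLData G v := by
  classical
  set k := Module.finrank F V
  let e : V ≃ₗ[F] (Fin k → F) := (Module.finBasis F V).equivFun
  let M : Matrix (Fin k) (Fin k) F := LinearMap.toMatrix' (e.toLinearMap ∘ₗ G.toLinearMap ∘ₗ e.symm.toLinearMap)
  have hM : ∀ x, e (G x) = M.mulVec (e x) := fun x => by
    rw [LinearMap.toMatrix'_mulVec]; simp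
  have hMu : IsUnit M.det := by
    rw [← Matrix.isUnit_iff_isUnit_det, ← Matrix.mulVec_injective_iff_isUnit]
    intro x y hxy
    obtain ⟨x, rfl⟩ := e.surjective x
    obtain ⟨y, rfl⟩ := e.surjective y
    rw [← hM, ← hM] at hxy
    rw [G.injective (e.injective hxy)]
  let Be := B.compl₁₂ e.symm.toLinearMap e.symm.toLinearMap
  let J : Matrix (Fin k) (Fin k) F := LinearMap.toMatrix₂' F Be
  have hJ : IsUnit J.det := by
    rw [isUnit_iff_ne_zero]
    intro h0
    obtain ⟨v, hv0, hv⟩ := Matrix.exists_mulVec_eq_zero_iff.2 h0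
    refine hv0 (e.symm.map_eq_zero_iff.1 (h.nondeg _ fun w => ?_))
    obtain ⟨u, rfl⟩ := e.symm.surjective w
    have : B (e.symm u) (e.symm v) = dotProduct u (J.mulVec v) := by
      rw [← Matrix.toLinearMap₂'_apply', Matrix.toLinearMap₂'_toMatrix']
      rfl
    rw [h.skew, this, hv, dotProduct_zero, neg_zero]
  have hinv : M.transpose * J * M = J := by
    rw [← LinearMap.toMatrix₂'_compl₁₂]
    congr 1
    exact LinearMap.ext₂ fun x y => by simp [Be, h.inv]
  obtain ⟨D⟩ := exists_decomp M
  have hl := lab_isLabel (g := M) hMu.ne_zero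
  rw [lab_eq D] at hl
  have root : ∀ j (ε : F), ε * ε = 1 → (D.p j).eval ε ≠ 0 := by
    intro j ε hε hroot
    have hp : D.p j = X - C ε := (eq_of_monic_of_associated (monic_X_sub_C ε) (D.monic j)
      ((irreducible_X_sub_C ε).associated_of_dvd (D.irred j) (dvd_iff_isRoot.2 hroot))).symm
    obtain ⟨x, hx0, hx⟩ := exists_kernel_vec D j
    refine hx0 (e.symm.map_eq_zero_iff.1 ?_)
    obtain ⟨z, rfl⟩ := e.surjective x
    rw [e.symm_apply_apply]
    rw [hp, map_sub, aeval_X, aeval_C, Matrix.sub_mulVec, sub_eq_zero, ← hM,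
      Algebra.algebraMap_eq_smul_one, Matrix.smul_mulVec, Matrix.one_mulVec, ← map_smul] at hx
    rcases mul_self_eq_one_iff.1 hε with rfl | rfl
    · exact h1 z (by simpa using e.injective hx)
    · exact hn z (by simpa using e.injective hx)
  refine ⟨D.label, fun i => isSR_of_recip h2 (hl.monic i) (recip_label D J hJ hMu hinv i)
    (hl.coeff_zero i) ?_ ?_, hl.at_zero, hl.at_big, hl.weight, k, e, M, hM, lab_eq D⟩
  all_goals
    show eval _ (∏ j ∈ Finset.univ.filter (fun j => D.e j = i), D.p j) ≠ 0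
    rw [eval_prod]
    exact Finset.prod_ne_zero_iff.2 fun j _ => root j _ (by norm_num)

/-- Isometries without eigenvalues `±1` with the same label are isometric. -/
theorem ldata_intertwine [Finite F] (h2 : (2 : F) ≠ 0) [FiniteDimensional F V] {V' : Type*}
    [AddCommGroup V'] [Module F V'] [FiniteDimensional F V']
    {B : V →ₗ[F] V →ₗ[F] F} {G : V ≃ₗ[F] V} {B' : V' →ₗ[F] V' →ₗ[F] F} {G' : V' ≃ₗ[F] V'}
    (h : IsIsom B G) (h' : IsIsom B' G') (h1 : ∀ v, G v = v → v = 0) (hn : ∀ v, G v = -v → v = 0)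
    (hdim : Module.finrank F V = Module.finrank F V') {v : ℕ → F[X]}
    (hd : IsLData G v) (hd' : IsLData G' v) :
    ∃ T : V ≃ₗ[F] V', (∀ x, T (G x) = G' (T x)) ∧ ∀ x y, B' (T x) (T y) = B x y := by
  obtain ⟨k, e, M, he, hv⟩ := hd
  obtain ⟨k', e', M', he', hv'⟩ := hd'
  obtain rfl : k = k' := by
    rw [e.finrank_eq, e'.finrank_eq, Module.finrank_fin_fun, Module.finrank_fin_fun] at hdim
    exact hdim
  obtain ⟨T₀, hT₀⟩ := Decomp.exists_intertwine (exists_decomp M).some (exists_decomp M').some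
    (hv.trans hv'.symm)
  let L : V ≃ₗ[F] V' := e.trans (T₀.trans e'.symm)
  have hL : ∀ x, L (G x) = G' (L x) := fun x => by
    apply e'.injective
    simp [L, he, he', hT₀]
  obtain ⟨T, hT, hTB⟩ := exists_centraliser_congr h2 (B'.compl₁₂ L.toLinearMap L.toLinearMap) B
    (fun x => h'.alt _)
    (fun x hx => L.map_eq_zero_iff.1 (h'.nondeg _ fun w => by
      obtain ⟨w, rfl⟩ := L.surjective w
      exact hx w))
    h.alt h.nondeg G (fun x y => by simp [hL, h'.inv]) h.inv h1 hn
  exact ⟨T.trans L, fun x => by simp [hT, hL], fun x y => hTB x y⟩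

end CfsgLib.SpClassNum
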