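import Cfsg.Agent.Lib.LinFix.SympIndex
import Cfsg.Agent.Lib.Linear.SympCard

/-!
At least `q^n` classes: every monic polynomial of degree `n` is the annihilator of `g + g⁻¹` for
some element `g` of the symplectic group.
-/

set_option autoImplicit false

namespace CfsgLib.SpClassNum

open Polynomial Matrix CfsgLib.Linear.Symp

variable {F : Type*} [Field F] {n : ℕ}

/-- `g + g⁻¹`. -/
noncomputable def traceMat (g : symplecticGroup (Fin n) F) : Matrix (Fin n ⊕ Fin n) (Fin n ⊕ Fin n) F :=
  g.1 + (g⁻¹).1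

theorem exists_trace_poly (hn : 1 ≤ n) {h : F[X]} (hm : h.Monic) (hd : h.natDegree = n) :
    ∃ g : symplecticGroup (Fin n) F, ∀ p : F[X], aeval (traceMat g) p = 0 ↔ h ∣ p := by
  let pb := AdjoinRoot.powerBasis hm.ne_zero
  haveI : FiniteDimensional F (AdjoinRoot h) := pb.finite
  let L : (AdjoinRoot h) →ₗ[F] F := (Polynomial.lcoeff F (n - 1)).comp (AdjoinRoot.modByMonicHom hm)
  let β : (AdjoinRoot h) →ₗ[F] (AdjoinRoot h) →ₗ[F] F := (LinearMap.mul F (AdjoinRoot h)).compr₂ L
  have hβ : ∀ u w, β u w = L (u * w) := fun u w => rfl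
  have hβnd : ∀ u, (∀ w, β u w = 0) → u = 0 := by
    intro u hu
    by_contra hu0
    obtain ⟨r, rfl⟩ := AdjoinRoot.mk_surjective u
    rw [← AdjoinRoot.mk_leftInverse hm (AdjoinRoot.mk h r), AdjoinRoot.modByMonicHom_mk] at hu hu0
    set s := r %ₘ h with hs
    have hs0 : s ≠ 0 := fun e => hu0 (by rw [e, map_zero])
    have hsd : s.natDegree < n := hd ▸ natDegree_modByMonic_lt r hm (fun e => by simp [e] at hd; omega)
    have h1 := hu (AdjoinRoot.mk h (X ^ (n - 1 - s.natDegree)))
    rw [hβ, ← map_mul] at h1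
    replace h1 : ((s * X ^ (n - 1 - s.natDegree)) %ₘ h).coeff (n - 1) = 0 := by
      rw [← AdjoinRoot.modByMonicHom_mk hm]; exact h1
    rw [(modByMonic_eq_self_iff hm).2 (by
      rw [degree_eq_natDegree hm.ne_zero, degree_eq_natDegree (mul_ne_zero hs0 (pow_ne_zero _ X_ne_zero)),
        Nat.cast_lt, natDegree_mul_X_pow _ hs0, hd]
      omega)] at h1
    have h2 := coeff_mul_X_pow s (n - 1 - s.natDegree) s.natDegree
    rw [show s.natDegree + (n - 1 - s.natDegree) = n - 1 by omega] at h2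
    rw [h2] at h1
    exact hs0 (leadingCoeff_eq_zero.1 h1)
  let B : ((AdjoinRoot h) × (AdjoinRoot h)) →ₗ[F] ((AdjoinRoot h) × (AdjoinRoot h)) →ₗ[F] F :=
    β.compl₁₂ (LinearMap.fst F (AdjoinRoot h) (AdjoinRoot h)) (LinearMap.snd F (AdjoinRoot h) (AdjoinRoot h)) -
      β.compl₁₂ (LinearMap.snd F (AdjoinRoot h) (AdjoinRoot h)) (LinearMap.fst F (AdjoinRoot h) (AdjoinRoot h))
  have hB : ∀ x y, B x y = L (x.1 * y.2) - L (x.2 * y.1) := fun x y => rfl
  have halt : ∀ x, B x x = 0 := fun x => by rw [hB, mul_comm, sub_self]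
  have hnd : ∀ x, (∀ y, B x y = 0) → x = 0 := fun x hx => by
    refine Prod.ext (hβnd _ fun w => ?_) (hβnd _ fun w => ?_)
    · simpa [hB, hβ] using hx (0, w)
    · simpa [hB, hβ] using hx (w, 0)
  obtain ⟨d, e, he⟩ := CfsgLib.LinFix.exists_sympEquiv B halt hnd
  obtain rfl : d = n := by
    have := e.finrank_eq
    rw [Module.finrank_prod, Module.finrank_pi, Fintype.card_sum, Fintype.card_fin, pb.finrank,
      AdjoinRoot.powerBasis_dim, hd] at this
    omega
  let G : ((AdjoinRoot h) × (AdjoinRoot h)) ≃ₗ[F] ((AdjoinRoot h) × (AdjoinRoot h)) :=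
    { toFun := fun x => (-x.2, x.1 + AdjoinRoot.root h * x.2)
      map_add' := fun x y => by ext <;> simp <;> ring
      map_smul' := fun c x => by ext <;> simp [mul_smul_comm, smul_add]
      invFun := fun x => (AdjoinRoot.root h * x.1 + x.2, -x.1)
      left_inv := fun x => by ext <;> simp
      right_inv := fun x => by ext <;> simp }
  have hG : ∀ x y, B (G x) (G y) = B x y := fun x y => by
    show B (-x.2, x.1 + AdjoinRoot.root h * x.2) (-y.2, y.1 + AdjoinRoot.root h * y.2) = _
    rw [hB, hB, ← map_sub, ← map_sub]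
    congr 1
    ring
  let M : Matrix (Fin d ⊕ Fin d) (Fin d ⊕ Fin d) F :=
    LinearMap.toMatrix' (e.toLinearMap ∘ₗ G.toLinearMap ∘ₗ e.symm.toLinearMap)
  have hM : ∀ x, M *ᵥ e x = e (G x) := fun x => by rw [LinearMap.toMatrix'_mulVec]; simp
  let g : symplecticGroup (Fin d) F := ⟨M, mem_of_form_mulVec fun x y => by
    obtain ⟨x, rfl⟩ := e.surjective x
    obtain ⟨y, rfl⟩ := e.surjective y
    rw [hM, hM, ← he, ← he, hG]⟩
  have hMi : ∀ x, (g⁻¹).1 *ᵥ e x = e (G.symm x) := fun x => by
    conv_lhs => rw [← G.apply_symm_apply x, ← hM, mulVec_mulVec]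
    rw [show (g⁻¹).1 * M = 1 from congrArg Subtype.val (inv_mul_cancel g), one_mulVec]
  have hK : ∀ x : (AdjoinRoot h) × (AdjoinRoot h), traceMat g *ᵥ e x = e (AdjoinRoot.root h * x.1, AdjoinRoot.root h * x.2) := fun x => by
    rw [traceMat, add_mulVec]
    show M *ᵥ e x + _ = _
    rw [hM, hMi, ← map_add]
    congr 1
    show (-x.2, x.1 + AdjoinRoot.root h * x.2) + (AdjoinRoot.root h * x.1 + x.2, -x.1) = _
    ext <;> simp
  have hp : ∀ (p : F[X]) (x : (AdjoinRoot h) × (AdjoinRoot h)),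
      aeval (traceMat g) p *ᵥ e x = e (AdjoinRoot.mk h p * x.1, AdjoinRoot.mk h p * x.2) := by
    intro p
    induction p using Polynomial.induction_on with
    | C a =>
      intro x
      rw [aeval_C, Algebra.algebraMap_eq_smul_one, smul_mulVec, one_mulVec, ← map_smul, AdjoinRoot.mk_C]
      congr 1
      ext <;> simp [Algebra.smul_def]
    | add p q hp hq =>
      intro x
      simp only [map_add, add_mulVec, hp, hq, add_mul]; rw [← map_add]
      rfl
    | monomial k a ih =>
      intro x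
      rw [pow_succ, ← mul_assoc, map_mul, aeval_X, ← mulVec_mulVec, hK, ih,
        map_mul (AdjoinRoot.mk h) (C a * X ^ k) X, AdjoinRoot.mk_X]
      congr 1
      ext <;> ring
  refine ⟨g, fun p => ?_⟩
  rw [← AdjoinRoot.mk_eq_zero]
  refine ⟨fun h0 => ?_, fun h0 => ?_⟩
  · have := hp p (1, 0)
    rw [h0, zero_mulVec] at this
    have h' := e.map_eq_zero_iff.1 this.symm
    simpa using congrArg Prod.fst h'
  · refine Matrix.ext_iff_mulVec.2 fun v => ?_
    obtain ⟨x, rfl⟩ := e.surjective v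
    rw [hp, h0, zero_mulVec, zero_mul, zero_mul]
    exact e.map_zero

/-- There are at least `q^n` classes. -/
theorem card_ge [Finite F] (hn : 1 ≤ n) :
    Nat.card F ^ n ≤ Nat.card (ConjClasses (symplecticGroup (Fin n) F)) := by
  classical
  let h : (Fin n → F) → F[X] := fun a => X ^ n + ((degreeLTEquiv F n).symm a : F[X])
  have hdeg : ∀ a : Fin n → F, ((degreeLTEquiv F n).symm a : F[X]).degree < n := fun a =>
    mem_degreeLT.1 ((degreeLTEquiv F n).symm a).2
  have hm : ∀ a, (h a).Monic := fun a => monic_X_pow_add (hdeg a)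
  have hd : ∀ a, (h a).natDegree = n := fun a => natDegree_eq_of_degree_eq_some (by
    rw [degree_add_eq_left_of_degree_lt (by rw [degree_X_pow]; exact hdeg a), degree_X_pow])
  choose g hg using fun a => exists_trace_poly hn (hm a) (hd a)
  have hcard : Nat.card (Fin n → F) = Nat.card F ^ n := by rw [Nat.card_fun, Nat.card_fin]
  rw [← hcard]
  refine Nat.card_le_card_of_injective (fun a => ConjClasses.mk (g a)) fun a b hab => ?_
  have key : ∀ a b, IsConj (g a) (g b) → h b ∣ h a := by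
    intro a b hc
    obtain ⟨c, hc⟩ := isConj_iff.1 hc
    rw [← hg b, ← hc]
    have hK : SemiconjBy c.1 (traceMat (g a)) (traceMat (c * g a * c⁻¹)) := by
      show c.1 * ((g a).1 + ((g a)⁻¹).1) =
        ((c * g a * c⁻¹).1 + ((c * g a * c⁻¹)⁻¹).1) * c.1
      have e1 : (c * g a * c⁻¹) * c = c * g a := by group
      have e2 : (c * g a * c⁻¹)⁻¹ * c = c * (g a)⁻¹ := by group
      rw [mul_add, add_mul]
      exact congrArg₂ (· + ·) (congrArg Subtype.val e1).symm (congrArg Subtype.val e2).symm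
    have hsum : c.1 * aeval (traceMat (g a)) (h a) = aeval (traceMat (c * g a * c⁻¹)) (h a) * c.1 := by
      rw [aeval_eq_sum_range, aeval_eq_sum_range, Finset.mul_sum, Finset.sum_mul]
      exact Finset.sum_congr rfl fun i _ => by
        rw [Matrix.mul_smul, Matrix.smul_mul, (hK.pow_right i).eq]
    rw [(hg a (h a)).2 dvd_rfl, mul_zero] at hsum
    calc aeval (traceMat (c * g a * c⁻¹)) (h a)
        = aeval (traceMat (c * g a * c⁻¹)) (h a) * (c.1 * (c⁻¹).1) := by
          rw [show c.1 * (c⁻¹).1 = 1 from congrArg Subtype.val (mul_inv_cancel c), mul_one]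
      _ = 0 := by rw [← mul_assoc, ← hsum, zero_mul]
  have heq : h a = h b := (eq_of_monic_of_associated (hm b) (hm a)
    (associated_of_dvd_dvd (key a b (ConjClasses.mk_eq_mk_iff_isConj.1 hab))
      (key b a (ConjClasses.mk_eq_mk_iff_isConj.1 hab).symm))).symm
  exact (degreeLTEquiv F n).symm.injective (Subtype.ext (add_left_cancel heq))

end CfsgLib.SpClassNum
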