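import Mathlib

/-!
The numerical bound for the class number of the symplectic group.
-/

set_option autoImplicit false

namespace CfsgLib.SpClassNum

/-- The factor of the index `i ≥ 2`. -/
noncomputable def factor (y : ℝ) (i : ℕ) : ℝ :=
  (1 + y ^ i) ^ 2 / (1 - y ^ (i - 1)) * ((1 - y ^ (2 * i - 1))⁻¹) ^ 2

/-- The truncated product. -/
noncomputable def total (y : ℝ) : ℕ → ℝ
  | 0 => (1 + y) ^ 2 / (1 - y) ^ 2
  | n + 1 => total y n * factor y (n + 2)

theorem total_eq_prod (y : ℝ) (n : ℕ) :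
    total y n = (1 + y) ^ 2 / (1 - y) ^ 2 * ∏ i ∈ Finset.range n, factor y (i + 2) := by
  induction n with
  | zero => simp [total]
  | succ n ih => rw [total, ih, Finset.prod_range_succ, mul_assoc]

theorem pow_lt_one' {y : ℝ} (h0 : 0 ≤ y) (h : y ≤ 1 / 3) {k : ℕ} (hk : 1 ≤ k) : y ^ k < 1 :=
  pow_lt_one₀ h0 (by linarith) (by omega)

theorem factor_nonneg {y : ℝ} (h0 : 0 ≤ y) (h : y ≤ 1 / 3) (i : ℕ) :
    0 ≤ factor y (i + 2) := by
  have h1 := pow_lt_one' h0 h (show 1 ≤ i + 2 - 1 by omega)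
  refine mul_nonneg (div_nonneg (sq_nonneg _) (by linarith)) (sq_nonneg _)

theorem factor_mono {y : ℝ} (h0 : 0 ≤ y) (h : y ≤ 1 / 3) (i : ℕ) :
    factor y (i + 2) ≤ factor (1 / 3) (i + 2) := by
  have h1 := pow_lt_one' (show (0 : ℝ) ≤ 1 / 3 by norm_num) le_rfl (show 1 ≤ i + 2 - 1 by omega)
  have h2 := pow_lt_one' (show (0 : ℝ) ≤ 1 / 3 by norm_num) le_rfl (show 1 ≤ 2 * (i + 2) - 1 by omega)
  have m1 := pow_le_pow_left₀ h0 h (i + 2)
  have m2 := pow_le_pow_left₀ h0 h (i + 2 - 1)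
  have m3 := pow_le_pow_left₀ h0 h (2 * (i + 2) - 1)
  have hy : 0 ≤ y ^ (i + 2) := pow_nonneg h0 _
  unfold factor
  refine mul_le_mul (div_le_div₀ (sq_nonneg _) (pow_le_pow_left₀ (by linarith) (by linarith) 2)
    (by linarith) (by linarith)) (pow_le_pow_left₀ (inv_nonneg.2 (by linarith))
    (inv_anti₀ (by linarith) (by linarith)) 2) (sq_nonneg _)
    (div_nonneg (sq_nonneg _) (by linarith))

theorem total_nonneg {y : ℝ} (h0 : 0 ≤ y) (h : y ≤ 1 / 3) : ∀ n, 0 ≤ total y n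
  | 0 => by unfold total; positivity
  | n + 1 => mul_nonneg (total_nonneg h0 h n) (factor_nonneg h0 h n)

theorem total_mono {y : ℝ} (h0 : 0 ≤ y) (h : y ≤ 1 / 3) : ∀ n, total y n ≤ total (1 / 3) n
  | 0 => by
      show (1 + y) ^ 2 / (1 - y) ^ 2 ≤ (1 + 1 / 3) ^ 2 / (1 - 1 / 3) ^ 2
      exact div_le_div₀ (sq_nonneg _) (pow_le_pow_left₀ (by linarith) (by linarith) 2) (by norm_num)
        (pow_le_pow_left₀ (by norm_num) (by linarith) 2)
  | n + 1 => mul_le_mul (total_mono h0 h n) (factor_mono h0 h n) (factor_nonneg h0 h n)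
      (total_nonneg (by norm_num) le_rfl n)

theorem factor_step (n : ℕ) :
    factor (1 / 3) (n + 8) * (1 + 4 * (1 / 3 : ℝ) ^ (n + 8)) ≤ 1 + 4 * (1 / 3 : ℝ) ^ (n + 7) := by
  set a : ℝ := (1 / 3 : ℝ) ^ (n + 7) with ha
  have ha0 : 0 ≤ a := by positivity
  have ha1 : a ≤ 1 / 100 := le_trans (pow_le_pow_of_le_one (by norm_num) (by norm_num)
    (show 7 ≤ n + 7 by omega)) (by norm_num)
  have hb : (1 / 3 : ℝ) ^ (n + 8) = a / 3 := by rw [ha, pow_succ]; ring
  have hc0 : 0 ≤ (1 / 3 : ℝ) ^ (2 * (n + 8) - 1) := by positivity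
  have hc : (1 / 3 : ℝ) ^ (2 * (n + 8) - 1) ≤ a ^ 2 := by
    rw [ha, ← pow_mul]
    exact pow_le_pow_of_le_one (by norm_num) (by norm_num) (by omega)
  unfold factor
  rw [show n + 8 - 1 = n + 7 by omega, ← ha, hb]
  set c := (1 / 3 : ℝ) ^ (2 * (n + 8) - 1)
  have haa : a ^ 2 ≤ a / 100 := by nlinarith
  rw [inv_pow, ← div_eq_mul_inv, div_div, div_mul_eq_mul_div,
    div_le_iff₀ (mul_pos (by linarith) (pow_pos (by linarith) 2))]
  have h1 : (1 + a / 3) ^ 2 * (1 + 4 * (a / 3)) ≤ 1 + 2.2 * a := by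
    nlinarith [mul_nonneg ha0 ha0, mul_le_mul_of_nonneg_left haa ha0]
  have h2 : 1 + 2.2 * a ≤ (1 + 4 * a) * ((1 - a) * (1 - a / 100) ^ 2) := by
    nlinarith [mul_nonneg ha0 ha0, mul_le_mul_of_nonneg_left haa ha0]
  refine h1.trans (h2.trans (mul_le_mul_of_nonneg_left ?_ (by linarith)))
  refine mul_le_mul_of_nonneg_left (pow_le_pow_left₀ (by linarith) (by linarith) 2) (by linarith)

theorem total_third_ge_six : ∀ n, total (1 / 3) (n + 6) * (1 + 4 * (1 / 3 : ℝ) ^ (n + 7)) ≤ 54 / 5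
  | 0 => by
      norm_num [total, factor]
  | n + 1 => by
      refine le_trans ?_ (total_third_ge_six n)
      rw [show n + 1 + 6 = (n + 6) + 1 by omega, show n + 1 + 7 = n + 8 by omega, total,
        show n + 6 + 2 = n + 8 by omega, mul_assoc]
      exact mul_le_mul_of_nonneg_left (factor_step n) (total_nonneg (by norm_num) le_rfl _)

theorem one_le_factor (i : ℕ) : 1 ≤ factor (1 / 3) (i + 2) := by
  have h1 := pow_lt_one' (show (0 : ℝ) ≤ 1 / 3 by norm_num) le_rfl (show 1 ≤ i + 2 - 1 by omega)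
  have h2 := pow_lt_one' (show (0 : ℝ) ≤ 1 / 3 by norm_num) le_rfl (show 1 ≤ 2 * (i + 2) - 1 by omega)
  have p1 : 0 ≤ (1 / 3 : ℝ) ^ (i + 2) := by positivity
  have p2 : 0 ≤ (1 / 3 : ℝ) ^ (i + 2 - 1) := by positivity
  have p3 : 0 ≤ (1 / 3 : ℝ) ^ (2 * (i + 2) - 1) := by positivity
  have e1 : 1 ≤ (1 + (1 / 3 : ℝ) ^ (i + 2)) ^ 2 := one_le_pow₀ (by linarith)
  refine one_le_mul_of_one_le_of_one_le ?_ (one_le_pow₀ ((one_le_inv₀ (by linarith)).2 (by linarith)))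
  rw [one_le_div (by linarith)]
  linarith

/-- The bound. -/
theorem total_le {y : ℝ} (h0 : 0 ≤ y) (h : y ≤ 1 / 3) (n : ℕ) : total y n ≤ 54 / 5 := by
  refine (total_mono h0 h n).trans ?_
  have hmono : Monotone (total (1 / 3 : ℝ)) := monotone_nat_of_le_succ fun k =>
    le_mul_of_one_le_right (total_nonneg (by norm_num) le_rfl k) (one_le_factor k)
  refine (hmono (show n ≤ n + 6 by omega)).trans (le_trans ?_ (total_third_ge_six n))
  exact le_mul_of_one_le_right (total_nonneg (by norm_num) le_rfl _)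
    (le_add_of_nonneg_right (by positivity))

end CfsgLib.SpClassNum
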